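import Mathlib.Data.Nat.Prime.Basic
import Mathlib.Tactic.NormNum.Prime
import Mathlib.Tactic.Linarith
import Mathlib.Tactic.Ring
import Mathlib.Tactic.IntervalCases
import Mathlib.Tactic.NormNum
import Mathlib.Algebra.Order.Ring.Abs

/-!
# The arithmetic of `C_U(S_F) = 1`
-/

set_option autoImplicit false

namespace Cfsg.Agent.OddChar.TypeP.Centralizer.Arith

/-- The inequality between the norm of `τΓ` and its coefficients on the coherent family of `L`:
`m = |C|`, `g = [L_F : U]`, `ub = [U : C]`, `d = [E : W₁]`, `a = [L_F : C]`. -/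
theorem main_quad {m g ub d a K : ℤ} (hm : 3 ≤ m) (hub : 1 ≤ ub) (hg : 1 ≤ g) (hd : 1 ≤ d)
    (ha : a = g * ub) (ham : m ≤ a) (hd3 : g = 1 → 3 ≤ d) (hmd : 2 * d ≤ m + 1)
    (hmg : 2 ≤ g → 2 * d ≤ m)
    (hI : m * (a * m - 1) * K ^ 2 + 2 * d * K * m * (a - 1) + d ^ 2 * (a - m) - d * ub + d * m ≤ 0) :
    g = 1 ∧ a = m ∧ (K = 0 ∨ (K = -1 ∧ m + 1 = 2 * d)) := by
  have hA : 0 ≤ d ^ 2 * (a - m) - d * ub + d * m ∧
      (d ^ 2 * (a - m) - d * ub + d * m ≤ 0 → g = 1 ∧ a = m) := by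
    rcases eq_or_lt_of_le hg with h1 | h1
    · obtain rfl : g = 1 := h1.symm
      rw [one_mul] at ha
      subst ha
      have h3 := hd3 rfl
      have e : d ^ 2 * (a - m) - d * a + d * m = d * (d - 1) * (a - m) := by ring
      have hdd : 0 < d * (d - 1) := mul_pos (by linarith) (by linarith)
      rw [e]
      refine ⟨mul_nonneg hdd.le (by linarith), fun hle => ⟨rfl, ?_⟩⟩
      by_contra hne
      have : 0 < a - m := by omega
      nlinarith [mul_pos hdd this]
    · have hpos : 0 < d ^ 2 * (a - m) - d * ub + d * m := by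
        by_cases hum : ub < m
        · nlinarith [mul_nonneg (sq_nonneg d) (sub_nonneg.2 ham),
            mul_pos (show (0 : ℤ) < d by linarith) (sub_pos.2 hum)]
        · push Not at hum
          have h2 : 2 * ub ≤ a := by rw [ha]; nlinarith
          nlinarith [mul_le_mul_of_nonneg_left (show 2 * ub - m ≤ a - m by linarith) (sq_nonneg d),
            mul_nonneg (mul_nonneg (show (0 : ℤ) ≤ d by linarith) (show (0 : ℤ) ≤ d - 1 by linarith))
              (sub_nonneg.2 hum),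
            mul_pos (show (0 : ℤ) < d ^ 2 by positivity) (show (0 : ℤ) < ub by linarith)]
      exact ⟨hpos.le, fun hle => absurd hle (by linarith)⟩
  obtain ⟨hA0, hA1⟩ := hA
  have hm0 : (0 : ℤ) < m := by linarith
  by_cases hK : K = 0
  · subst hK
    obtain ⟨h1, h2⟩ := hA1 (by nlinarith [hI])
    exact ⟨h1, h2, Or.inl rfl⟩
  have hK1 : 1 ≤ |K| := abs_pos.2 hK
  have hquad : (a * m - 1) * |K| ≤ 2 * d * (a - 1) := by
    have h1 : m * |K| * ((a * m - 1) * |K| - 2 * d * (a - 1)) ≤ 0 := by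
      have hKK : -(|K|) ≤ K := neg_abs_le K
      have hs : |K| * |K| = K ^ 2 := by rw [sq, abs_mul_abs_self]
      have hle := mul_le_mul_of_nonneg_left hKK
        (mul_nonneg (mul_nonneg (show (0 : ℤ) ≤ 2 * d by linarith) hm0.le)
          (show (0 : ℤ) ≤ a - 1 by linarith))
      calc m * |K| * ((a * m - 1) * |K| - 2 * d * (a - 1))
          = m * (a * m - 1) * (|K| * |K|) + 2 * d * m * (a - 1) * -|K| := by ring
        _ ≤ m * (a * m - 1) * K ^ 2 + 2 * d * m * (a - 1) * K := by rw [hs]; linarith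
        _ ≤ 0 := by linarith
    by_contra hlt
    push Not at hlt
    nlinarith [mul_pos (mul_pos hm0 (show (0 : ℤ) < |K| by linarith)) (sub_pos.2 hlt)]
  have ha3 : 3 ≤ a := hm.trans ham
  have hlt : m < 2 * d := by
    by_contra hge
    push Not at hge
    have h0 : 0 ≤ (a * m - 1) := by nlinarith
    nlinarith [mul_le_mul_of_nonneg_left hK1 h0, mul_le_mul_of_nonneg_left hge (show (0 : ℤ) ≤ a by linarith)]
  have hg1 : g = 1 := by
    by_contra h
    exact absurd (hmg (by omega)) (by omega)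
  have hmeq : m + 1 = 2 * d := by omega
  have hK2 : |K| = 1 := by
    by_contra h
    have h2 : 2 ≤ |K| := by omega
    have h0 : 0 ≤ (a * m - 1) := by nlinarith
    nlinarith [mul_le_mul_of_nonneg_left h2 h0, mul_le_mul_of_nonneg_left
      (show 3 ≤ m by linarith) (show (0 : ℤ) ≤ a - 1 by linarith)]
  rcases (abs_eq (by norm_num : (0 : ℤ) ≤ 1)).1 hK2 with rfl | rfl
  · exfalso
    nlinarith [mul_nonneg (mul_nonneg (show (0 : ℤ) ≤ 2 * d by linarith) hm0.le)
      (show (0 : ℤ) ≤ a - 1 by linarith), mul_pos hm0 (show (0 : ℤ) < a * m - 1 by nlinarith)]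
  · refine ⟨hg1, ?_, Or.inr ⟨rfl, hmeq⟩⟩
    obtain rfl := hg1
    rw [one_mul] at ha
    subst ha
    have h3 := hd3 rfl
    have e : m * (a * m - 1) * (-1) ^ 2 + 2 * d * (-1) * m * (a - 1) + d ^ 2 * (a - m) - d * a + d * m
        = (a - m) * (d ^ 2 - d - m) := by
      rw [show m = 2 * d - 1 by linarith]; ring
    rw [e] at hI
    have hpos : 0 < d ^ 2 - d - m := by nlinarith
    by_contra hne
    have : 0 < a - m := by omega
    nlinarith [mul_pos this hpos]

/-- The coefficient of `Y` on `τ₁ λ` is not `-1`. -/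
theorem bracket_ne {p q r c : ℤ} (hp : 3 ≤ p) (hq : 3 ≤ q)
    (hc : c = 1 - p ∨ (5 ≤ p ∧ c = 2 - p)) :
    p * q < 1 + (q - 1) * r ^ 2 + (p - 1) * c ^ 2 + (q - 1) * (p - 1) * (r + c - 1) ^ 2 := by
  -- `p (r² + (p-1)(r+c-1)²) ≥ (p-1)(c-1)²`
  have key : p * (r ^ 2 + (p - 1) * (r + c - 1) ^ 2) ≥ (p - 1) * (c - 1) ^ 2 := by
    nlinarith [sq_nonneg (r * p + (p - 1) * (c - 1))]
  have key' : p * p ≤ p * (r ^ 2 + (p - 1) * (r + c - 1) ^ 2) := by
    rcases hc with rfl | ⟨h5, rfl⟩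
    · nlinarith [mul_le_mul_of_nonneg_right (show (1 : ℤ) ≤ p - 1 by linarith) (mul_self_nonneg p)]
    · nlinarith [mul_le_mul_of_nonneg_right (show (4 : ℤ) ≤ p - 1 by linarith)
        (mul_self_nonneg (p - 1)), mul_self_nonneg (p - 2)]
  have hX : p ≤ r ^ 2 + (p - 1) * (r + c - 1) ^ 2 := le_of_mul_le_mul_left key' (by linarith)
  have hc2 : p ≤ (p - 1) * c ^ 2 := by
    rcases hc with rfl | ⟨h5, rfl⟩
    · nlinarith [mul_le_mul_of_nonneg_right (show (2 : ℤ) ≤ p - 1 by linarith) (mul_self_nonneg (p - 1))]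
    · nlinarith [mul_le_mul_of_nonneg_right (show (4 : ℤ) ≤ p - 1 by linarith) (mul_self_nonneg (p - 2))]
  nlinarith [mul_le_mul_of_nonneg_left hX (show (0 : ℤ) ≤ q - 1 by linarith)]

/-- `W (y+1)² + y² ≤ pq` with `y ≠ -1` bounds `m`. -/
theorem m_le {m e W y : ℕ} {z : ℤ} (hz : z ≠ -1) (he : e * W + 1 = m ^ 2) (hy : y = z.natAbs)
    (hb : (z : ℤ) ^ 2 + ((W : ℤ) - 1) * (z + 1) ^ 2 ≤ e) (hme : Odd m) (heo : Odd e) (hW : 1 ≤ W) :
    m ≤ e := by
  have h1 : (1 : ℤ) ≤ (z + 1) ^ 2 := by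
    have : z + 1 ≠ 0 := fun h => hz (by linarith)
    have := pow_two_pos_of_ne_zero this
    omega
  have hW' : (W : ℤ) - 1 ≤ e := by
    nlinarith [mul_le_mul_of_nonneg_left h1 (show (0 : ℤ) ≤ (W : ℤ) - 1 by omega), sq_nonneg z]
  have h2 : m ^ 2 ≤ e * (e + 1) + 1 := by
    have : W ≤ e + 1 := by omega
    rw [← he]
    exact Nat.succ_le_succ (Nat.mul_le_mul_left e this)
  by_contra hlt
  push Not at hlt
  obtain ⟨i, rfl⟩ := hme
  obtain ⟨j, rfl⟩ := heo
  have : (2 * j + 3) ^ 2 ≤ (2 * i + 1) ^ 2 := Nat.pow_le_pow_left (by omega) 2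
  nlinarith

theorem two_sq_le (p q : ℕ) (hp : 3 ≤ p) (hq : 5 ≤ q) (h : ¬ (p ≤ 4 ∧ q ≤ 8)) :
    2 * p ^ 2 * q ^ 2 ≤ p ^ q := by
  have mono : ∀ n, 5 ≤ n → ∀ k, 2 * p ^ 2 * n ^ 2 ≤ p ^ n → 2 * p ^ 2 * (n + k) ^ 2 ≤ p ^ (n + k) := by
    intro n hn k hk
    induction k with
    | zero => simpa using hk
    | succ k ih =>
      have hs : 2 * p ^ 2 * (n + (k + 1)) ^ 2 ≤ p * (2 * p ^ 2 * (n + k) ^ 2) := by
        have : (n + (k + 1)) ^ 2 ≤ 3 * (n + k) ^ 2 := by
          obtain ⟨t, ht⟩ : ∃ t, n + k = t + 5 := ⟨n + k - 5, by omega⟩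
          rw [← Nat.add_assoc, ht]
          ring_nf
          omega
        calc 2 * p ^ 2 * (n + (k + 1)) ^ 2 ≤ 2 * p ^ 2 * (3 * (n + k) ^ 2) :=
              Nat.mul_le_mul_left _ this
          _ ≤ 2 * p ^ 2 * (p * (n + k) ^ 2) :=
              Nat.mul_le_mul_left _ (Nat.mul_le_mul_right _ hp)
          _ = p * (2 * p ^ 2 * (n + k) ^ 2) := by ring
      calc _ ≤ p * (2 * p ^ 2 * (n + k) ^ 2) := hs
        _ ≤ p * p ^ (n + k) := Nat.mul_le_mul_left _ ih
        _ = p ^ (n + (k + 1)) := by ring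
  by_cases h5 : 5 ≤ p
  · obtain ⟨k, rfl⟩ := Nat.exists_eq_add_of_le hq
    refine mono 5 le_rfl k ?_
    calc 2 * p ^ 2 * 5 ^ 2 = p ^ 2 * 50 := by ring
      _ ≤ p ^ 2 * p ^ 3 := Nat.mul_le_mul_left _ (le_trans (by norm_num) (Nat.pow_le_pow_left h5 3))
      _ = p ^ 5 := by ring
  · obtain ⟨k, rfl⟩ : ∃ k, q = 9 + k := ⟨q - 9, by omega⟩
    refine mono 9 (by norm_num) k ?_
    calc 2 * p ^ 2 * 9 ^ 2 = p ^ 2 * 162 := by ring
      _ ≤ p ^ 2 * p ^ 7 := Nat.mul_le_mul_left _ (le_trans (by norm_num) (Nat.pow_le_pow_left hp 7))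
      _ = p ^ 9 := by ring

/-- The final count of the `ψ`'s. -/
theorem final {p q m : ℕ} (hp : p.Prime) (hq : q.Prime) (hp2 : p ≠ 2) (hq2 : q ≠ 2) (hpq : p ≠ q)
    (hm : Odd m) (hqm : q ∣ m - 1) (hpm : p ∣ m ^ 2 - 1) (hmhi : m ≤ q * p)
    (hcount : p ^ q ≤ q * (p * m - 1) + p) : False := by
  have hp3 : 3 ≤ p := Nat.lt_of_le_of_ne hp.two_le hp2.symm
  have hq3 : 3 ≤ q := Nat.lt_of_le_of_ne hq.two_le hq2.symm
  have hb : p ^ q ≤ p ^ 2 * q ^ 2 + p := by
    refine hcount.trans (Nat.add_le_add_right ?_ p)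
    calc q * (p * m - 1) ≤ q * (p * (q * p)) :=
          Nat.mul_le_mul_left _ ((Nat.sub_le _ _).trans (Nat.mul_le_mul_left _ hmhi))
      _ = p ^ 2 * q ^ 2 := by ring
  rcases eq_or_lt_of_le hq3 with hq' | hq'
  · subst hq'
    have hp9 : p ≤ 9 := by
      by_contra h
      have h2 : 10 * p ^ 2 ≤ p ^ 3 := by
        rw [pow_succ' p 2]; exact Nat.mul_le_mul_right _ (by omega)
      nlinarith
    have hp5 : p = 5 ∨ p = 7 := by
      have : p ≠ 4 := fun e => by subst e; norm_num at hp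
      have : p ≠ 6 := fun e => by subst e; norm_num at hp
      have : p ≠ 8 := fun e => by subst e; norm_num at hp
      have : p ≠ 9 := fun e => by subst e; norm_num at hp
      omega
    obtain ⟨i, rfl⟩ := hm
    rcases hp5 with rfl | rfl
    · have : i ≤ 7 := by omega
      interval_cases i <;> simp_all <;> omega
    · have : i ≤ 10 := by omega
      interval_cases i <;> simp_all <;> omega
  · have hq5 : 5 ≤ q := by
      rcases eq_or_ne q 4 with rfl | h
      · norm_num at hq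
      · omega
    by_cases hs : p ≤ 4 ∧ q ≤ 8
    · obtain rfl : p = 3 := by
        rcases eq_or_ne p 4 with rfl | h
        · norm_num at hp
        · omega
      have : q = 5 ∨ q = 7 := by
        have : q ≠ 6 := fun e => by subst e; norm_num at hq
        have : q ≠ 8 := fun e => by subst e; norm_num at hq
        omega
      rcases this with rfl | rfl <;> norm_num at hb
    · have hbig := two_sq_le p q hp3 hq5 hs
      have h1 : p * 1 < p * (p * q ^ 2) := by
        refine Nat.mul_lt_mul_of_pos_left ?_ hp.pos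
        nlinarith
      have h2 : p * (p * q ^ 2) = p ^ 2 * q ^ 2 := by ring
      rw [mul_assoc 2] at hbig
      omega

end Cfsg.Agent.OddChar.TypeP.Centralizer.Arith
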