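import Cfsg.Agent.OddChar.TypeP.Centralizer.Choice
import Cfsg.Agent.OddChar.TypeP.Exceptional.TypeThreeBound

/-!
# The partner is not of type III when `C_U(S_F) ≠ 1`
-/

set_option autoImplicit false
set_option linter.unusedSectionVars false
set_option linter.style.haveILetI false

namespace Cfsg.Agent.OddChar.TypeP.Centralizer

open Cfsg Subgroup
open Cfsg.Agent.OddLocal
open Cfsg.Agent.Characters
open Cfsg.Agent.OddChar.TypeP.Tools (GHyp centU LCtx memI YI wI famI Duo)
open Cfsg.Agent.OddChar.Isometry (mem_zS map_sub')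

universe u

variable {G : Type u} [Group G] [Fintype G] {S T L W₁ W₂ U V : Subgroup G}

theorem not_typeIII (h3c : TypeThreeColumnStatement.{u}) [Fintype S] [Fintype T] [Fintype L]
    (c : CData S T W₁ W₂ U V L) (g : GHyp S W₁ U W₂) (g' : GHyp T W₂ V W₁) (hC' : centU T V = ⊥)
    {τ₁ : (↥L → ℂ) → G → ℂ} {lam : ↥L → ℂ} (cL : LCtx L τ₁ lam)
    {η : (↥(W₁ ⊔ W₂) →* ℂˣ) → G → ℂ} (D : Duo S T W₁ W₂ U V η)
    {j : ↥(W₁ ⊔ W₂) →* ℂˣ} (hj : j ∈ rightSet W₁ W₂) (hj1 : j ≠ 1) {t : (↥L → ℂ) → ℤ}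
    (hLD : LeftData S T W₁ W₂ U L η τ₁ (g.tauGam j) j t) (hIII : IsOfTypeIII T) : False := by
  classical
  haveI : Fintype (leftSet W₂ W₁) := Fintype.ofFinite _
  haveI := Noncoherent.derivedIn_normal T
  have hG := c.hG
  have sT : Exceptional.Side T W₂ V W₁ :=
    ⟨hG, g'.hS, g'.hP, g'.hq, g'.hp, g'.hel, g'.hcard, hC', g'.hab, g'.hU, Or.inr hIII⟩
  obtain ⟨-, -, -, -, hcore⟩ := Noncoherent.exists_core hG g'.hS (Or.inl hIII)
  obtain ⟨μ, δ, hμ⟩ := mu hG T W₂ V W₁ g'.hS g'.hP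
  -- a member of degree `p`
  have hcard := Exceptional.card_linSet sT hcore
  obtain ⟨ζ, hζ⟩ : ∃ ζ, ζ ∈ Exceptional.linSet T := by
    set F := (Coherence.above_finite (derivedIn T) ((fittingHallOf T).subgroupOf T)).toFinset with hF
    rcases F.eq_empty_or_nonempty with e | ⟨ζ, hζ⟩
    · rw [e, Finset.card_empty, mul_zero, zero_add] at hcard
      exact absurd hcard (not_le.mpr ((one_lt_card_iff_ne_bot V).2 g'.hU))
    · exact ⟨ζ, (Set.Finite.mem_toFinset _).1 hζ⟩
  obtain ⟨hζi, hζ1⟩ := Exceptional.linSet_spec sT hcore hζ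
  have hζS := Exceptional.linSet_subset sT hcore hζ
  set α : ↥T → ℂ := colSum μ 1 - ζ with hα
  have hαc : IsClassFunction ↥T α := fun x h => by
    simp only [hα, Pi.sub_apply]
    rw [hμ.col_isClassFunction hG g'.hP 1 x h,
      char_isClassFunction (isCharacter_of_isIrr hζi) x h]
  have hcol1 : colSum μ 1 1 = (Nat.card W₂ : ℂ) := by
    rw [hμ.col_apply_derived hG g'.hP 1 (x := (1 : ↥T)) (one_mem _), hμ.map_one, mul_one]
  have hαA : ∀ x : T, (x : G) ∉ typeA T → α x = 0 := fun x hx => by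
    by_cases hd : (x : G) ∈ ⁅T, T⁆
    · by_cases h1 : x = 1
      · rw [h1, hα, Pi.sub_apply, hcol1, hζ1, sub_self]
      · refine absurd ((mem_typeA_iff hG g'.hS g'.hP).2 ⟨hd, fun e => h1 (Subtype.ext e), x,
          hcore.ge hd, fun e => h1 (Subtype.ext e), rfl⟩) hx
    · rw [hα, Pi.sub_apply, hμ.col_apply_notMem hG g'.hP 1 hd,
        Tools.eq_zero_of_notMem_derived (mem_zS hζS) hd, sub_zero]
  have hsum : Tools.CosetSumZero T α := fun a ha hns _ => absurd (by
    rw [← Types.typeCore_eq hG g'.hS, hcore]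
    exact ((mem_typeA_iff hG g'.hS g'.hP).1 ha).1) hns
  have hαgen : IsGeneralizedCharacter ↥T α := by
    refine isGen_sub ?_ (isGen_of_isCharacter (isCharacter_of_isIrr hζi))
    rw [Tools.colSum_eq_sum]
    exact isGen_sum _ _ fun i _ => isGen_of_isCharacter (isCharacter_of_isIrr (hμ.irr _))
  set Y := tau T α with hY
  have hYgen : IsGeneralizedCharacter G Y :=
    Dade.isGen (dadeHyp hG g'.hS) hαgen fun x hx => hαA x fun h => hx (Or.inl h)
  have hcolumn := h3c hG T W₂ V W₁ g'.hS g'.hP hIII _ D.swap.hη μ δ hμ ζ hζS hζi hζ1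
  have hY1 : classInner Y (η 1) = 1 := by
    have h := (hcolumn 1).1 Tools.one_mem_rightSet
    rwa [Tools.swapDual_one] at h
  have hYj : classInner Y (η j) = 0 := by
    have hj' : Tools.swapDual j ∉ rightSet W₂ W₁ := fun h => by
      have hl : Tools.swapDual j ∈ leftSet W₂ W₁ := Tools.swapDual_mem_leftSet.2 hj
      refine hj1 ?_
      rw [← Tools.swapDual_swapDual j, ((CyclicTI.split_of D.swap.hW).mul_inj hl Tools.one_mem_leftSet
        Tools.one_mem_rightSet h
        ((mul_one (Tools.swapDual j)).trans (one_mul (Tools.swapDual j)).symm)).1, Tools.swapDual_one]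
    have h := (hcolumn (Tools.swapDual j)).2 hj'
    rwa [Tools.swapDual_swapDual] at h
  have hYX : classInner Y (g.tauGam j) = 0 := Coherence.inner_comm_zero
    (Tools.inner_tau_A0_partner hG g.hS g'.hS g.hP g'.hP D.not_conj hαc hαA)
  obtain ⟨s, hs⟩ := classInner_gen_int (cL.iso.2.2.2 _ (mem_zS cL.lam_mem)) hYgen
  have hcoef : ∀ φ ∈ memI L, classInner Y (τ₁ φ) = (((wI L φ : ℤ) * s : ℤ) : ℂ) := fun φ hφ => by
    have hm := cL.mem.1 hφ
    have h0 := Tools.inner_tau_IP hG c.ov.hL c.ov.kappa g'.hS g'.hP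
      (isGen_isClassFunction (Tools.isGen_famI (cL.diff_mem hm).1)) (cL.supp (cL.diff_mem hm)) hαc hsum
    change classInner (Tools.tauI L (φ - (wI L φ : ℤ) • lam)) Y = 0 at h0
    rw [← cL.image_diff hm, classInner_sub_left, Coherence.inner_smul_int_left, hs, sub_eq_zero] at h0
    rw [classInner_conj_symm (τ₁ φ) Y, h0, ← Int.cast_mul, map_intCast]
  rw [hLD.eq, classInner_add_right, classInner_sub_right, hY1, hYj, sub_zero, classInner_sum_right,
    Finset.sum_congr rfl (g := fun φ => ((s * ((wI L φ : ℤ) * t φ) : ℤ) : ℂ)) fun φ hφ => by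
      rw [classInner_smul_right, map_intCast, hcoef φ hφ]; push_cast; ring,
    ← Int.cast_sum, ← Finset.mul_sum] at hYX
  set B := ∑ φ ∈ memI L, (wI L φ : ℤ) * t φ with hB
  have h1 : 1 + s * B = 0 := by
    have h' : (((1 + s * B : ℤ)) : ℂ) = ((0 : ℤ) : ℂ) := by push_cast; exact_mod_cast hYX
    exact_mod_cast h'
  -- `B` is even
  have hm2 : Even ((Nat.card ↥(centU S U) : ℤ) - 1) := by
    obtain ⟨k, hk⟩ := c.odd_cu
    exact ⟨k, by rw [hk]; push_cast; ring⟩
  have hqB : Even ((Nat.card W₁ : ℤ) * B) := by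
    rcases hLD.sum with h | h <;> rw [h]
    · exact hm2
    · exact hm2.neg
  have hBeven : Even B := (Int.even_mul.mp hqB).resolve_left (by
    rw [Int.even_coe_nat, Nat.not_even_iff_odd]
    exact odd_subgroup hG _)
  obtain ⟨k, hk⟩ := hBeven.mul_left s
  omega

end Cfsg.Agent.OddChar.TypeP.Centralizer
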