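import Cfsg.Agent.OddChar.TypeP.Tools.Gamma
import Cfsg.Agent.OddChar.TypeP.Tools.Pair
import Cfsg.Agent.OddChar.TypeP.Tools.Degrees
import Cfsg.Agent.OddChar.TypeP.Pair.Fcore
import Cfsg.Agent.OddChar.TypeP.Dichotomy
import Cfsg.Agent.OddChar.CyclicTI.Family

/-!
# `C_U(S_F) ≠ 1` makes the partner exceptional with `C_V(T_F) = 1`
-/

set_option autoImplicit false
set_option linter.unusedSectionVars false
set_option linter.style.haveILetI false

namespace Cfsg.Agent.OddChar.TypeP.Centralizer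

open Cfsg Subgroup
open Cfsg.Agent.OddChar.TypeP.Tools (GHyp centU SCtx Duo irrMem mem_irrMem oDeg)

universe u

variable {G : Type u} [Group G] {S T W₁ W₂ U V : Subgroup G}

/-- `S` satisfies the hypotheses for `Γ`. -/
theorem ghyp_of [Finite G] (hV : NoTypeVStatement.{u}) (h3 : TypeThreeStatement.{u})
    (hG : IsMinSimpleOddOrder G) (h : PairData S T W₁ W₂ U V) : GHyp S W₁ U W₂ := by
  obtain ⟨hq, hp⟩ := Pair.primes hV hG S T W₁ W₂ U V h
  obtain ⟨hel, hcard⟩ := Pair.fcore hV h3 chiefStatement_proof hG S T W₁ W₂ U V h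
  refine ⟨hG, h.hS, h.hSP, hq, hp, hel, hcard, Pair.U_ne_bot hG h.hS h.hSP (Pair.types hV hG h), ?_⟩
  rcases Pair.types hV hG h with hII | hIII
  · exact Pair.U_abelian_of_II hG h.hS h.hSP hII
  · have := (h3 hG S W₁ U W₂ h.hS h.hSP hIII).2.2.1
    exact IsCyclic.isMulCommutative

section

variable [Finite G] (g : GHyp S W₁ U W₂)
include g

/-- The chief factor is `S_F / 1`, with `C = C_U(S_F)`. -/
theorem chief_data : ChiefData S W₁ U W₂ ⊥ (centU S U) (Nat.card W₂) := by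
  obtain ⟨H₀, C, r, d⟩ := chiefStatement_proof g.hG S W₁ U W₂ g.hS g.hP g.hU g.hq
  obtain ⟨rfl, rfl⟩ := Pair.chief_bot g.hp g.hcard d
  have e : C = centU S U := by
    ext u
    rw [chief_mem_C d, mem_inf, mem_centralizer_iff]
    refine and_congr Iff.rfl ⟨fun h y hy => ?_, fun h y hy => ?_⟩
    · have e := mem_bot.mp (h y hy)
      rw [mul_inv_eq_one, mul_inv_eq_iff_eq_mul] at e
      exact e.symm
    · rw [← h y hy, mem_bot]; group
  exact e ▸ d

/-- `[U : C] (p - 1) ≤ p ^ q - 1`. -/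
theorem relIndex_mul_le :
    (centU S U).relIndex U * (Nat.card W₂ - 1) ≤ Nat.card W₂ ^ Nat.card W₁ - 1 := by
  have hp2 := g.hp.two_le
  have hpos : 1 ≤ Nat.card W₂ ^ Nat.card W₁ := Nat.one_le_pow _ _ g.hp.pos
  rcases dichotomyStatement_proof g.hG S W₁ U W₂ ⊥ (centU S U) (Nat.card W₂) g.hS g.hP g.hq
    (chief_data g) with hgal | ⟨H₁, C₁, a, hs⟩
  · refine Nat.le_of_dvd ?_ hgal.dvd
    have : Nat.card W₂ ^ 1 ≤ Nat.card W₂ ^ Nat.card W₁ := Nat.pow_le_pow_right g.hp.pos g.hq.one_lt.le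
    rw [pow_one] at this
    omega
  · have ha : a ≤ Nat.card W₂ - 1 := Nat.le_of_dvd (by omega) hs.dvd
    have h1 : (centU S U).relIndex U ≤ (Nat.card W₂ - 1) ^ (Nat.card W₁ - 1) :=
      (Nat.le_of_dvd (Nat.pow_pos (by have := hs.one_lt; omega)) hs.index_dvd).trans
        (Nat.pow_le_pow_left ha _)
    have h2 : (Nat.card W₂ - 1) ^ Nat.card W₁ < Nat.card W₂ ^ Nat.card W₁ :=
      Nat.pow_lt_pow_left (by omega) g.hq.ne_zero
    calc (centU S U).relIndex U * (Nat.card W₂ - 1)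
        ≤ (Nat.card W₂ - 1) ^ (Nat.card W₁ - 1) * (Nat.card W₂ - 1) := Nat.mul_le_mul_right _ h1
      _ = (Nat.card W₂ - 1) ^ Nat.card W₁ := by
          rw [← pow_succ, Nat.sub_add_cancel g.hq.one_lt.le]
      _ ≤ _ := by omega

theorem exists_sctx [Fintype G] [Fintype S] : ∃ τ₁, SCtx S W₁ U W₂ τ₁ :=
  Tools.exists_sctx g.hG g.hS g.hP g.hq (chief_data g) rfl (commutator_eq_bot_iff_le_centralizer.mpr
    fun _ ha => mem_centralizer_iff.mpr fun _ hb =>
      (g.commute_U (mem_inf.mp hb).1 (mem_inf.mp ha).1).eq)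

/-- Without irreducible members `C = 1` and `U` has the largest possible order. -/
theorem of_no_irr [Fintype G] [Fintype S]
    (h : ∀ ψ ∈ calSH S ⊥, ¬ IsIrrCharacter ↥S ψ) : centU S U = ⊥ ∧ IsExceptional W₁ U W₂ := by
  obtain ⟨μ, δ, hμ⟩ := mu g.hG S W₁ U W₂ g.hS g.hP
  set ub := (centU S U).relIndex U with hub
  set m := Nat.card ↥(centU S U) with hm
  have he : irrMem S = ∅ := Finset.eq_empty_of_forall_notMem fun φ hφ =>
    h φ (mem_irrMem.1 hφ).1 (mem_irrMem.1 hφ).2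
  have hsum := Tools.sum_degrees g.hG g.hS g.hP hμ (d := ub) fun j hj hj1 => g.mu_one hj hj1 hμ
  rw [he, Finset.sum_empty, mul_zero, add_zero, g.hcard] at hsum
  have hu : m * ub = Nat.card U := card_mul_relIndex inf_le_left
  have hub0 : 0 < ub := Nat.pos_of_ne_zero fun e => by
    rw [e, mul_zero] at hu; exact Nat.card_pos.ne hu
  obtain ⟨P, hP⟩ : ∃ P, Nat.card W₂ ^ Nat.card W₁ = P + 1 :=
    ⟨_, (Nat.sub_add_cancel (Nat.one_le_pow _ _ g.hp.pos)).symm⟩
  have h1 : (Nat.card W₂ - 1) * ub = P * m := by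
    refine Nat.eq_of_mul_eq_mul_right hub0 ?_
    rw [hP, ← hu] at hsum
    linarith [hsum, show (P + 1) * (m * ub) = P * m * ub + m * ub by ring,
      show (Nat.card W₂ - 1) * ub ^ 2 = (Nat.card W₂ - 1) * ub * ub by ring]
  have h2 := relIndex_mul_le g
  rw [hP, Nat.add_sub_cancel, ← hub, mul_comm, h1] at h2
  have hP0 : 0 < P := by
    have : Nat.card W₂ ^ 1 ≤ Nat.card W₂ ^ Nat.card W₁ := Nat.pow_le_pow_right g.hp.pos g.hq.one_lt.le
    have := g.hp.two_le
    rw [pow_one] at *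
    omega
  have hm1 : m = 1 := by
    have : m ≤ 1 := Nat.le_of_mul_le_mul_left (by rwa [mul_one]) hP0
    have : 0 < m := Nat.card_pos
    omega
  refine ⟨card_eq_one.mp hm1, ?_⟩
  rw [hm1, one_mul] at hu
  rw [hm1, mul_one] at h1
  rw [IsExceptional, ← hu, hP, Nat.add_sub_cancel, mul_comm, h1]

/-- With `C ≠ 1` there is an irreducible member. -/
theorem exists_irr_mem [Fintype G] [Fintype S] (hC : centU S U ≠ ⊥) :
    ∃ ψ ∈ calSH S ⊥, IsIrrCharacter ↥S ψ := by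
  by_contra h
  push Not at h
  exact hC (of_no_irr g h).1

end

/-- If `C_U(S_F) ≠ 1` then `C_V(T_F) = 1` and `T` is exceptional. -/
theorem partner_bot [Finite G] (g : GHyp S W₁ U W₂) (g' : GHyp T W₂ V W₁)
    (hC : centU S U ≠ ⊥) : centU T V = ⊥ ∧ IsExceptional W₂ V W₁ := by
  haveI := Fintype.ofFinite G
  haveI : Fintype S := Fintype.ofFinite _
  haveI : Fintype T := Fintype.ofFinite _
  obtain ⟨ψ, hψ, hi⟩ := exists_irr_mem g hC
  obtain ⟨τS, cS⟩ := exists_sctx g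
  obtain ⟨τT, cT⟩ := exists_sctx g'
  obtain ⟨η, hη⟩ := CyclicTI.exists_family g.hP.selfNormalizing (odd_subgroup g.hG _)
  refine of_no_irr g' fun χ hχ hχi => Tools.not_both_irr (U := U) (V := V)
    ⟨g.hG, g.hS, g'.hS, g.hP, g'.hP, g.hq, g.hp, hη⟩ cS cT hψ hi hχ hχi

end Cfsg.Agent.OddChar.TypeP.Centralizer
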