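import Cfsg.Agent.OddChar.TypeP.Centralizer.OtherSide
import Cfsg.Agent.OddChar.TypeP.Tools.Cross
import Cfsg.Agent.OddChar.TypeP.Centralizer.Setup

/-!
# A partner of type II: the count of the members of `S(1)`
-/

set_option autoImplicit false
set_option linter.unusedSectionVars false
set_option linter.style.haveILetI false

namespace Cfsg.Agent.OddChar.TypeP.Centralizer

open Cfsg Subgroup
open Cfsg.Agent.OddLocal Cfsg.Agent.OddLocal.SigmaParts
open Cfsg.Agent.Characters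
open Cfsg.Agent.OddChar.TypeP.Tools (GHyp centU coreC LCtx memI YI wI famI eSq Duo irrMem mem_irrMem oDeg)
open Cfsg.Agent.OddChar.Isometry (mem_zS)
open Cfsg.Agent.CharTheory.IndBasic (extendByZero_of_mem)

universe u

variable {G : Type u} [Group G] [Fintype G] {S T L L' W₁ W₂ U V : Subgroup G}

/-- The averages of `τΓ` on `L'_σ` vanish. -/
theorem rho_tauGam_other [Fintype S] [Fintype L] [Fintype L'] (c : CData S T W₁ W₂ U V L)
    (g : GHyp S W₁ U W₂) (hL' : IsCoatom L') (hκ' : kappa L' = ∅)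
    (hnc : ∀ x : G, L' ≠ L.map (MulAut.conj x).toMonoidHom)
    {j : ↥(W₁ ⊔ W₂) →* ℂˣ} {a : G} (ha : a ∈ typeA L') :
    TypeOne.Gap.rho (supportR L') (g.tauGam j) a = 0 := by
  have hG := c.hG
  have haσ : a ∈ sigmaCore L' ∧ a ≠ 1 := by
    rw [Tools.typeA_eq_core hG hL' hκ'] at ha; exact ha
  refine TypeOne.Gap.rho_const fun r hr => ?_
  by_contra hne
  obtain ⟨har, hrσ, -⟩ := SupportR.mem_cases hG hL' haσ.1 haσ.2 hr
  obtain ⟨x, hx | ⟨w, hw, -, -, e⟩⟩ := Tools.exists_conj_of_tau_ne hG g.hS g.hP hne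
  · have hd := ((mem_typeA_iff hG g.hS g.hP).1 hx).1
    have hxS : x * (a * r) * x⁻¹ ∈ S := commutator_le_M S hd
    have hne' : g.gam j ⟨_, hxS⟩ ≠ 0 := fun h0 => hne (by
      show tau S (g.gam j) (a * r) = 0
      rw [← Tools.isClassFunction_tau hG g.hS (g.classFun_gam j) (a * r) x]
      show tau S (g.gam j) (x * (a * r) * x⁻¹) = 0
      rw [Tools.tau_apply_mem hG g.hS (g.classFun_gam j) (Or.inl hx),
        extendByZero_of_mem S (g.gam j) hxS, h0])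
    have hcore := (g.gam_supp_derived j (x := ⟨_, hxS⟩) hd hne').1
    obtain ⟨i, hi⟩ := mem_zpowers_iff.1
      (mem_zpowers_mul har (coprime_of_parts (mem_sigma_core haσ.1) hrσ))
    have hxa : x * a * x⁻¹ ∈ coreC S U := by
      rw [← hi, ← conj_zpow]
      exact zpow_mem hcore i
    obtain ⟨y, hy, c', hc', e⟩ := g.exists_coreC hxa
    have hκS := Noncoherent.kappa_nonempty_of_typeP hG c.pair.hS c.hP
    have hσ : ∀ s : ℕ, s.Prime → s ∣ orderOf (x * a * x⁻¹) → s ∉ sigma S := fun s hs hsd =>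
      piEl_of_sigma_ne hG c.pair.hS hL'
        (fun g e => Tools.map_ne_of_kappa hG hκ' hκS g e.symm)
        (mem_sigma_core haσ.1) s hs (by rwa [TypeTwo.orderOf_conj] at hsd)
    have hyσ : y ∈ sigmaCore S := c.core_S ▸ hy
    have hy1 : y = 1 := by
      by_contra hne
      obtain ⟨s, hs, hsd⟩ := Nat.exists_prime_and_dvd (mt orderOf_eq_one_iff.1 hne)
      have hcomm : Commute y c' := g.commute_C hc' hy
      refine hσ s hs (hsd.trans ?_) (mem_sigma_core hyσ s hs hsd)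
      refine orderOf_dvd_of_pow_eq_one ?_
      have h := pow_orderOf_eq_one (x * a * x⁻¹)
      rw [e, hcomm.mul_pow] at h
      rw [e]
      exact (g.eq_one_of_mul (pow_mem hy _) (pow_mem (mem_inf.mp hc').1 _) h).1
    rw [hy1, one_mul] at e
    refine Set.eq_empty_iff_forall_notMem.mp (SupportR.tilde_disjoint hG c.ov.hL hL' hnc) a ⟨?_, ?_⟩
    · rw [← Tools.typeA_eq_core hG c.ov.hL c.ov.kappa]
      refine SupportR.mem_tilde.2 ⟨x * a * x⁻¹, ?_, 1, one_mem _, x⁻¹, by group⟩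
      rw [c.typeA_eq]
      exact ⟨c.cu_le_core (e ▸ hc'), fun e => haσ.2 (conj_eq_one_iff.1 e)⟩
    · rw [← Tools.typeA_eq_core hG hL' hκ']
      exact SupportR.mem_tilde.2 ⟨a, ha, 1, one_mem _, 1, by group⟩
  · refine Tools.notMem_tilde_of_mem_W hG hL' hκ' g.hS g.hP hw x⁻¹ ?_
    refine SupportR.mem_tilde.2 ⟨a, ha, r, hr, 1, ?_⟩
    rw [← e]; group

/-- `p ^ q - p ≤ q (p |C| - 1)`. -/
theorem typeII_count [Fintype S] [Fintype L] [Fintype L'] (c : CData S T W₁ W₂ U V L)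
    (g : GHyp S W₁ U W₂) (hVc : IsCyclic V) (hexc : IsExceptional W₂ V W₁)
    {τ₁ : (↥L → ℂ) → G → ℂ} {lam : ↥L → ℂ} (cL : LCtx L τ₁ lam)
    {η : (↥(W₁ ⊔ W₂) →* ℂˣ) → G → ℂ} (D : Duo S T W₁ W₂ U V η)
    {j : ↥(W₁ ⊔ W₂) →* ℂˣ} (hj : j ∈ rightSet W₁ W₂) (hj1 : j ≠ 1) {t : (↥L → ℂ) → ℤ}
    (ht : ∀ φ ∈ memI L, classInner (τ₁ φ) (g.tauGam j) = (t φ : ℂ))
    (hLD : LeftData S T W₁ W₂ U L η τ₁ (g.tauGam j) j t)
    (hm : Nat.card ↥(centU S U) ≤ Nat.card W₁ * Nat.card W₂) (o : OverData T S W₂ V L') :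
    Nat.card W₂ ^ Nat.card W₁ ≤
      Nat.card W₁ * (Nat.card W₂ * Nat.card ↥(centU S U) - 1) + Nat.card W₂ := by
  classical
  have hG := c.hG
  have hnc := not_conj c g hLD.core hLD.card_U hm hVc hexc o
  have hnc' : ∀ x : G, L ≠ L'.map (MulAut.conj x).toMonoidHom := fun x e => hnc x⁻¹ (by
    rw [e, Transfer.Fusion.map_conj_inv_cancel])
  obtain ⟨τ', lam', cL'⟩ := Tools.exists_lctx hG o.hL o.kappa
  set X := g.tauGam j with hXdef
  have hX := g.isGen_tauGam hj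
  obtain ⟨y, r, s, hY⟩ := Exceptional.exists_ycoef cL' D
  have hYX : classInner (YI L' lam') X = 0 := cL'.inner_Y (isGen_isClassFunction hX) fun a ha =>
    rho_tauGam_other c g o.hL o.kappa hnc ha
  obtain ⟨k, hk⟩ := classInner_gen_int cL'.gen_Y (cL.iso.2.2.2 _ (mem_zS cL.lam_mem))
  have hcoef : ∀ φ ∈ memI L, classInner (YI L' lam') (τ₁ φ) = (((wI L φ : ℤ) * k : ℤ) : ℂ) :=
    fun φ hφ => Tools.inner_comm_int (by
      rw [cL'.inner_Y_image cL hnc' (cL.mem.1 hφ), Tools.inner_comm_int hk]; push_cast; ring)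
  rw [hLD.eq, classInner_add_right, classInner_sub_right, hY.ha, hY.ha, hY.h1, hY.hs j hj hj1,
    classInner_sum_right,
    Finset.sum_congr rfl (g := fun φ => ((k * ((wI L φ : ℤ) * t φ) : ℤ) : ℂ)) fun φ hφ => by
      rw [classInner_smul_right, map_intCast, hcoef φ hφ]; push_cast; ring,
    ← Int.cast_sum, ← Finset.mul_sum] at hYX
  set B := ∑ φ ∈ memI L, (wI L φ : ℤ) * t φ with hB
  have h1 : 1 - s + k * B = 0 := by
    have h' : (((1 - s + k * B : ℤ)) : ℂ) = ((0 : ℤ) : ℂ) := by push_cast; exact_mod_cast hYX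
    exact_mod_cast h'
  set q := Nat.card W₁ with hq
  set p := Nat.card W₂ with hp
  set m := Nat.card ↥(centU S U) with hmdef
  -- `B` is even, so `s` is odd
  have hm2 : Even ((m : ℤ) - 1) := by
    obtain ⟨i, hi⟩ := c.odd_cu
    exact ⟨i, by rw [hmdef, hi]; push_cast; ring⟩
  have hqB : Even ((q : ℤ) * B) := by
    rcases hLD.sum with h | h <;> rw [h]
    exacts [hm2, hm2.neg]
  have hqo : Odd q := odd_subgroup hG _
  have hBeven : Even B := (Int.even_mul.mp hqB).resolve_left (by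
    rw [Int.even_coe_nat, Nat.not_even_iff_odd]; exact hqo)
  obtain ⟨i, hi⟩ := hBeven.mul_left k
  obtain ⟨l, hl⟩ := hqo
  set σ : ℤ := s + ((q : ℤ) - 1) * (r + s - 1) with hσdef
  have hσ : 1 ≤ σ ^ 2 := by
    have : σ ≠ 0 := by
      intro e
      rw [hσdef, show (q : ℤ) - 1 = 2 * (l : ℤ) by rw [hl]; push_cast; ring] at e
      have : s = 1 + 2 * i := by omega
      rw [this, mul_assoc] at e
      omega
    have := pow_two_pos_of_ne_zero this
    omega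
  -- the members of `S(1)`
  obtain ⟨μ, δ, hμ⟩ := mu hG S W₁ U W₂ g.hS g.hP
  obtain ⟨τS, cS⟩ := exists_sctx g
  let v : (↥S → ℂ) → ℤ := fun ψ =>
    if h : ψ ∈ irrMem S then
      (classInner_gen_int cL'.gen_Y (cS.iso.2.2.2 _ (mem_zS (mem_irrMem.1 h).1))).choose
    else 0
  have hv : ∀ ψ ∈ irrMem S, classInner (YI L' lam') (τS ψ) = (v ψ : ℂ) := fun ψ h => by
    simp only [v, dif_pos h]
    exact (classInner_gen_int cL'.gen_Y
      (cS.iso.2.2.2 _ (mem_zS (mem_irrMem.1 h).1))).choose_spec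
  have hd : ∀ j ∈ rightSet W₁ W₂, j ≠ 1 → μ j 1 = ((m : ℕ) : ℂ) := fun j hj hj1 => by
    rw [g.mu_one hj hj1 hμ, hLD.ub]
  have hle : ∀ ψ ∈ irrMem S, (oDeg W₁ ψ : ℤ) ^ 2 ≤ (m : ℤ) ^ 2 * v ψ ^ 2 := fun ψ hψ => by
    obtain ⟨hmem, hi⟩ := mem_irrMem.1 hψ
    obtain ⟨ε, hε, h⟩ := Tools.psi_rule cL' D cS hμ hj hj1 (hd j hj hj1) hY.ha hY.h1 hY.hr hY.hs
      hmem hi (Tools.oDeg_spec g.hP hmem).2 (hv ψ hψ)
    rw [← hσdef] at h
    have hε2 : ε ^ 2 = 1 := by rcases hε with rfl | rfl <;> norm_num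
    have h' : ε ^ 2 * (oDeg W₁ ψ : ℤ) ^ 2 * σ ^ 2 = (m : ℤ) ^ 2 * v ψ ^ 2 := by
      rw [← mul_pow, ← mul_pow, ← mul_pow, h]
    rw [hε2, one_mul] at h'
    rw [← h']
    exact le_mul_of_one_le_right (sq_nonneg _) hσ
  have hsum := Tools.sum_degrees hG g.hS g.hP hμ hd
  rw [g.hcard, hLD.card_U, ← hp, ← hq, ← hmdef] at hsum
  have hbud := Exceptional.budget_int cL' D hY (irrMem S) τS
    (fun ψ hψ χ hχ => by
      rw [cS.iso.2.2.1 _ (mem_zS (mem_irrMem.1 hψ).1) _ (mem_zS (mem_irrMem.1 hχ).1)]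
      exact Coherence.irr_orth (S := {φ | IsIrrCharacter ↥S φ}) (fun _ h => h)
        (mem_irrMem.1 hψ).2 (mem_irrMem.1 hχ).2)
    (fun ψ hψ ω => Coherence.inner_comm_zero
      (cS.inner_eta D.hη (mem_irrMem.1 hψ).1 (mem_irrMem.1 hψ).2 ω))
    (fun ψ hψ φ hφ => cS.inner_famI cL' hφ (mem_irrMem.1 hψ).1 (mem_irrMem.1 hψ).2) hv
  rw [← hq, ← hp] at hbud
  have hidx : (fittingHall L').index = Nat.card ↥(L' ⊓ S) := by
    rw [TypeOne.Gap.fittingHall_eq hG o.hL o.kappa]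
    refine Nat.eq_of_mul_eq_mul_left (n := Nat.card ((sigmaCore L').subgroupOf L')) Nat.card_pos ?_
    rw [card_mul_index, Nat.card_congr (subgroupOfEquivOfLe (Sigma.sigmaCore_le L')).toEquiv,
      mul_comm, ← Basics.card_eq_of_isCompl' o.compl.1 o.compl.2.1 o.compl.2.2.1 o.compl.2.2.2]
  have hqm : q ≤ m := by
    have h3 := c.three_le
    have := Nat.le_of_dvd (by omega)
      ((Nat.modEq_iff_dvd' (by omega)).mp c.card_modEq.symm)
    omega
  have he : ((fittingHall L').index : ℤ) ≤ ((p * m : ℕ) : ℤ) := by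
    rw [hidx]; exact_mod_cast card_compl_le g o hqm
  have hp1 := g.hp.one_lt
  have hq1 := g.hq.one_lt
  have hE : (1 : ℤ) ≤ eSq q p r s := by
    simp only [eSq]
    nlinarith [mul_nonneg (show (0 : ℤ) ≤ (q : ℤ) - 1 by omega) (sq_nonneg r),
      mul_nonneg (show (0 : ℤ) ≤ (p : ℤ) - 1 by omega) (sq_nonneg s),
      mul_nonneg (mul_nonneg (show (0 : ℤ) ≤ (q : ℤ) - 1 by omega)
        (show (0 : ℤ) ≤ (p : ℤ) - 1 by omega)) (sq_nonneg (r + s - 1))]
  have hA : ∑ ψ ∈ irrMem S, (oDeg W₁ ψ : ℤ) ^ 2 ≤ (m : ℤ) ^ 2 * ∑ ψ ∈ irrMem S, v ψ ^ 2 := by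
    rw [Finset.mul_sum]; exact Finset.sum_le_sum hle
  have hsum' : ((p : ℤ) - 1) * (m : ℤ) ^ 2 + (q : ℤ) * ∑ ψ ∈ irrMem S, (oDeg W₁ ψ : ℤ) ^ 2 +
      (m : ℤ) ^ 2 = (p : ℤ) ^ q * (m : ℤ) ^ 2 := by
    have := congrArg (fun n : ℕ => (n : ℤ)) hsum
    push_cast [Nat.cast_sub (show 1 ≤ p from g.hp.one_lt.le)] at this
    exact this
  have hm0 : (0 : ℤ) < (m : ℤ) ^ 2 := by
    have := c.three_le
    positivity
  have hfin : (p : ℤ) ^ q ≤ (q : ℤ) * ((p : ℤ) * m - 1) + p := by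
    refine le_of_mul_le_mul_right ?_ hm0
    have h2 : ∑ ψ ∈ irrMem S, v ψ ^ 2 ≤ (p : ℤ) * m - 1 := by push_cast at he; linarith
    have h3 := mul_le_mul_of_nonneg_left
      (hA.trans (mul_le_mul_of_nonneg_left h2 hm0.le)) (show (0 : ℤ) ≤ q by positivity)
    nlinarith
  have hpm : 1 ≤ p * m := Nat.one_le_iff_ne_zero.mpr (by
    have := c.three_le
    exact Nat.mul_ne_zero (by omega) (by omega))
  have hfin' : ((p ^ q : ℕ) : ℤ) ≤ ((q * (p * m - 1) + p : ℕ) : ℤ) := by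
    push_cast [Nat.cast_sub hpm]
    exact hfin
  exact_mod_cast hfin'

end Cfsg.Agent.OddChar.TypeP.Centralizer
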