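import Cfsg.Agent.OddChar.TypeP.Centralizer.Setup
import Cfsg.Agent.OddChar.TypeP.Centralizer.Arith
import Cfsg.Agent.OddChar.TypeP.Centralizer.TypeThreeCase
import Cfsg.Agent.OddChar.TypeP.Centralizer.TypeTwoCase
import Cfsg.Agent.OddChar.TypeP.TypeThree.Main
import Cfsg.Agent.OddChar.TypeP.NoTypeV

/-!
# `C_U(S_F) = 1`
-/

set_option autoImplicit false
set_option linter.unusedSectionVars false
set_option linter.style.haveILetI false

namespace Cfsg.Agent.OddChar.TypeP.Centralizer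

open Cfsg Subgroup
open Cfsg.Agent.OddLocal
open Cfsg.Agent.OddChar.TypeP.Tools (GHyp centU Duo)

universe u

variable {G : Type u} [Group G] [Finite G]

/-- A maximal subgroup over `N(U)`. -/
theorem exists_over {S W₁ U W₂ : Subgroup G} (g : GHyp S W₁ U W₂) :
    ∃ L, IsCoatom L ∧ normalizer (U : Set G) ≤ L := by
  have hne : normalizer (U : Set G) ≠ ⊤ := Transitivity.normalizer_ne_top g.hG g.hU
    fun e => g.hS.1 (top_le_iff.mp (e ▸ U_le_M g.hP))
  exact (eq_top_or_exists_le_coatom _).resolve_left hne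

/-- `C_U(S_F) = 1`. -/
theorem centralizer : CentralizerStatement.{u} := by
  intro G _ _ hG S T W₁ W₂ U V h
  haveI := Fintype.ofFinite G
  rcases Pair.types noTypeV hG h with hII | hIII
  swap
  · exact (TypeThree.typeThree hG S W₁ U W₂ h.hS h.hSP hIII).2.2.2.1
  by_contra hC1
  have g := ghyp_of noTypeV TypeThree.typeThree hG h
  have g' := ghyp_of noTypeV TypeThree.typeThree hG h.symm
  obtain ⟨hC', hexc⟩ := partner_bot g g' hC1
  have hf : Partner T W₂ V W₁ := ⟨g.hq, g.hp, g'.hU, g'.hab, g'.hel, g'.hcard, hC'⟩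
  obtain ⟨L, hL, hN⟩ := exists_over g
  have c : CData S T W₁ W₂ U V L := ⟨hG, h, hII, hC1, hf, h.over hG hII hL hN⟩
  haveI : Fintype S := Fintype.ofFinite _
  haveI : Fintype T := Fintype.ofFinite _
  haveI : Fintype L := Fintype.ofFinite _
  obtain ⟨η, hη⟩ := CyclicTI.exists_family g.hP.selfNormalizing (odd_subgroup hG _)
  have D : Duo S T W₁ W₂ U V η := ⟨hG, h.hS, h.hT, h.hSP, h.hTP, g.hq, g.hp, hη⟩
  obtain ⟨j, hj, hj1⟩ := exists_right_ne_one g.hP
  obtain ⟨τ₁, lam, cL⟩ := Tools.exists_lctx hG hL c.ov.kappa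
  obtain ⟨t, ht, hLD, hm, hpm, -⟩ := exists_choice c g cL D hj hj1
  rcases Pair.types noTypeV hG h.symm with hII' | hIII' | hIV'
  · obtain ⟨L', hL', hN'⟩ := exists_over g'
    have o := h.symm.over hG hII' hL' hN'
    haveI : Fintype L' := Fintype.ofFinite _
    have sT : Exceptional.Side T W₂ V W₁ :=
      ⟨hG, h.hT, h.hTP, g.hp, g.hq, g'.hel, g'.hcard, hC', g'.hab, g'.hU, Or.inl hII'⟩
    have hcount := typeII_count c g (sT.cyclic_of_exceptional hexc) hexc cL D hj hj1 ht hLD hm o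
    have hodd : ∀ H : Subgroup G, Odd (Nat.card H) := odd_subgroup hG
    refine Arith.final g.hp g.hq (fun e => ?_) (fun e => ?_)
      (fun e => Pair.card_ne hG h.hS h.hSP e.symm) c.odd_cu
      ((Nat.modEq_iff_dvd' (by have := c.three_le; omega)).mp c.card_modEq.symm) hpm hm hcount
    · exact absurd (hodd W₂) (by rw [e]; decide)
    · exact absurd (hodd W₁) (by rw [e]; decide)
  · exact not_typeIII TypeThree.typeThreeColumn c g g' hC' cL D hj hj1 hLD hIII'
  · exact (TypeThree.typeThree hG T W₂ V W₁ h.hT h.hTP (Or.inr hIV')).1 hIV'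

end Cfsg.Agent.OddChar.TypeP.Centralizer
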