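import Cfsg.Agent.OddChar.TypeP.Endgame
import Cfsg.Agent.OddChar.TypeP.ChiefBasic
import Cfsg.Agent.OddChar.TypeP.Noncoherent.Setting

/-!
# A pair of maximal subgroups of type P in the language of the standard factorisation
-/

set_option autoImplicit false
set_option linter.unusedSectionVars false

namespace Cfsg.Agent.OddChar.TypeP

open Cfsg Subgroup
open Cfsg.Agent.OddLocal

universe u

variable {G : Type u} [Group G] [Finite G] {S T W₁ W₂ U V : Subgroup G}

theorem PairData.symm (h : PairData S T W₁ W₂ U V) : PairData T S W₂ W₁ V U :=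
  ⟨h.hT, h.hS, h.hTP, h.hSP, by rw [inf_comm, h.inter, sup_comm], h.two.symm, h.typeT, h.typeS⟩

/-- For type II any complement `U` of `M_F` in `M'` normalised by `W₁` completes a standard
factorisation. -/
theorem decomp_of_typeII (hG : IsMinSimpleOddOrder G) {M W₁ U W₂ : Subgroup G} (hM : IsCoatom M)
    (hP : IsTypePWith M W₁ U W₂) (hII : IsOfTypeII M) :
    IsSigmaDecomposition M W₁ U ∧ fittingHallOf M = sigmaCore M ∧ U ≠ ⊥ := by
  obtain ⟨K, hKU, hσ, hK⟩ := Types.decomp_of_compl hG hM (Or.inr ⟨hII, hP.U_compl⟩)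
  have hU1 := (Types.of_typeII hG hM hKU hII).2
  have hHall := (Noncoherent.hall_data hG hM hP).1
  refine ⟨⟨hP.W₁_cyclic, hHall, ⟨U_le_M hP, ?_, ?_, fun m hm => ?_⟩, hP.U_normal⟩, hσ, hU1⟩
  · exact sup_le (W₁_le_M hP) (hσ ▸ H_le_M M)
  · refine inf_eq_bot_of_coprime ?_
    have hn : W₁ ≤ normalizer (fittingHallOf M : Set G) :=
      (W₁_le_M hP).trans (M_le_normalizer_H M)
    have hd : fittingHallOf M ⊓ W₁ = ⊥ := le_bot_iff.mp
      ((inf_le_inf_right W₁ (H_le_derived hP)).trans hP.W₁_compl.2.2.1.le)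
    rw [← hσ, sup_comm, Coprime.card_sup_of_disjoint hn (disjoint_iff.mpr hd)]
    exact Nat.Coprime.mul_right (coprime_H_U hP).symm (coprime_U_W₁ hP)
  · obtain ⟨d, hd, w, hw, rfl⟩ := hP.W₁_compl.2.2.2 m hm
    obtain ⟨x, hx, v, hv, rfl⟩ := hP.U_compl.2.2.2 d hd
    refine ⟨v, hv, v⁻¹ * x * v * w, mul_mem (mem_sup_right ?_) (mem_sup_left hw), by group⟩
    rw [← hσ]
    exact (mem_normalizer_iff''.mp (M_le_normalizer_H M (U_le_M hP hv)) x).mp hx

theorem PairData.decomp (h : PairData S T W₁ W₂ U V) (hG : IsMinSimpleOddOrder G)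
    (hII : IsOfTypeII S) :
    IsSigmaDecomposition S W₁ U ∧ fittingHallOf S = sigmaCore S ∧ U ≠ ⊥ :=
  decomp_of_typeII hG h.hS h.hSP hII

/-- The two members are partners over `W₁W₂`. -/
theorem PairData.pair (h : PairData S T W₁ W₂ U V) (hG : IsMinSimpleOddOrder G) :
    PType.Pair S W₁ T ∧ PType.star S W₁ = W₂ := by
  obtain ⟨hW, hs⟩ := Noncoherent.hall_data hG h.hS h.hSP
  obtain ⟨-, hs'⟩ := Noncoherent.hall_data hG h.hT h.hTP
  obtain ⟨V₀, hKV⟩ := KappaDecomp.exists_decomposition hG h.hS hW h.hSP.W₁_cyclic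
  refine ⟨PType.pair_of_partner hG h.hS hKV h.hSP.W₁_ne h.hT ?_, hs⟩
  have e : sigmaCore S ⊓ centralizer (W₁ : Set G) = W₂ := hs
  rw [e]
  exact hs'.symm

theorem PairData.exists_gen (h : PairData S T W₁ W₂ U V) (hG : IsMinSimpleOddOrder G)
    (hII : IsOfTypeII S) : ∃ w : G, PType.P2 S W₁ U T w :=
  PType.P2.exists_gen hG (h.pair hG).1 (h.decomp hG hII).1 (h.decomp hG hII).2.2

/-- `N(W₁) ≤ T`. -/
theorem PairData.normalizer_le (h : PairData S T W₁ W₂ U V) (hG : IsMinSimpleOddOrder G)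
    (hq : (Nat.card W₁).Prime) : normalizer (W₁ : Set G) ≤ T := by
  obtain ⟨hp, hs⟩ := h.pair hG
  have := Fact.mk hq
  obtain ⟨w, hw⟩ := exists_prime_orderOf_dvd_card' (G := W₁) (Nat.card W₁) dvd_rfl
  rw [← orderOf_coe] at hw
  have hw1 : (w : G) ≠ 1 := fun e => by
    rw [e, orderOf_one] at hw
    exact hq.ne_one hw.symm
  have hgen : zpowers (w : G) = W₁ :=
    eq_of_le_of_card_ge (zpowers_le.mpr w.2) (by rw [Nat.card_zpowers, hw])
  have hop : (orderOf (w : G)).Prime := hw ▸ hq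
  obtain ⟨L, hL, hwL, -, -, hN⟩ := PType.exists_side hG hp.hM hp.hK w.2 hop
  rw [hgen] at hN
  refine hN.trans (le_of_eq ?_)
  have hwT : (w : G) ∈ sigmaCore T := hp.le_core w.2
  have hσT : orderOf (w : G) ∈ sigma T := SigmaParts.mem_sigma_core hwT _ hop dvd_rfl
  have hσL : orderOf (w : G) ∈ sigma L := SigmaParts.mem_sigma_core hwL _ hop dvd_rfl
  obtain ⟨g, hg⟩ := SigmaParts.conj_of_common hG h.hT hL.1 hσT hσL
  rw [hg]
  refine (SigmaParts.mem_iff_conj_eq hG h.hT).mp ?_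
  refine (hp.member_partner hG).mem_of_part hG (z := (w : G))
    (mem_inf.mpr ⟨hwT, mem_sup_left w.2⟩) hw1 ?_
  exact hg ▸ Sigma.sigmaCore_le L hwL

end Cfsg.Agent.OddChar.TypeP
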