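import Cfsg.Agent.OddChar.TypeP.Centralizer.Leftover
import Cfsg.Agent.Lib.CharTheory.Ito

/-!
# A member orthogonal to `τΓ`, and `|C| ≤ p q`
-/

set_option autoImplicit false
set_option linter.unusedSectionVars false
set_option linter.style.haveILetI false

namespace Cfsg.Agent.OddChar.TypeP.Centralizer

open Cfsg Subgroup
open Cfsg.Agent.OddLocal
open Cfsg.Agent.Characters
open Cfsg.Agent.OddChar.TypeP.Tools (GHyp centU LCtx memI YI wI famI eSq Duo)

universe u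

variable {G : Type u} [Group G] [Fintype G] {S T L W₁ W₂ U V : Subgroup G}

/-- When `L_σ = U` every member has degree `[L : L_σ]`. -/
theorem wI_eq_one (c : CData S T W₁ W₂ U V L) [Fintype L] (hcore : sigmaCore L = U) {φ : ↥L → ℂ}
    (hφ : φ ∈ famI L) : wI L φ = 1 := by
  haveI : Fintype (fittingHall L) := Fintype.ofFinite _
  obtain ⟨θ, hθ, -, e⟩ := Tools.exists_of_mem_famI hφ
  have hcomm : ∀ a b : fittingHall L, a * b = b * a := fun a b => by
    refine Subtype.ext (Subtype.ext ((c.commute_U ?_ ?_).eq)) <;> rw [← hcore]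
    exacts [(Tools.mem_fittingHall_iff c.hG c.ov.hL c.ov.kappa).1 a.2,
      (Tools.mem_fittingHall_iff c.hG c.ov.hL c.ov.kappa).1 b.2]
  obtain ⟨k, hk, hkd⟩ := CharTheory.Ito.degree_dvd_index_abelian (⊤ : Subgroup (fittingHall L))
    (fun a _ b _ => hcomm a b) hθ
  rw [index_top, Nat.dvd_one] at hkd
  have hd := (Tools.degree_famI hφ).2
  rw [e, indFun_one, hk, hkd, Nat.cast_one, mul_one] at hd
  rw [← e] at hd
  exact_mod_cast (mul_right_cancel₀
    (Nat.cast_ne_zero.2 Subgroup.index_ne_zero_of_finite) ((one_mul _).trans hd)).symm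

/-- Some member is orthogonal to `τΓ`, and then `|C| ≤ p q`. -/
theorem exists_choice [Fintype S] [Fintype L] (c : CData S T W₁ W₂ U V L) (g : GHyp S W₁ U W₂)
    {τ₁ : (↥L → ℂ) → G → ℂ} {lam : ↥L → ℂ} (cL : LCtx L τ₁ lam)
    {η : (↥(W₁ ⊔ W₂) →* ℂˣ) → G → ℂ} (D : Duo S T W₁ W₂ U V η)
    {j : ↥(W₁ ⊔ W₂) →* ℂˣ} (hj : j ∈ rightSet W₁ W₂) (hj1 : j ≠ 1) :
    ∃ t : (↥L → ℂ) → ℤ,
      (∀ φ ∈ memI L, classInner (τ₁ φ) (g.tauGam j) = (t φ : ℂ)) ∧
      LeftData S T W₁ W₂ U L η τ₁ (g.tauGam j) j t ∧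
      Nat.card ↥(centU S U) ≤ Nat.card W₁ * Nat.card W₂ ∧
      Nat.card W₂ ∣ Nat.card ↥(centU S U) ^ 2 - 1 ∧
      2 * Nat.card W₂ ≤ Nat.card ↥(centU S U) + 1 := by
  classical
  haveI := g.hP.selfNormalizing.2.2.2.2.1
  haveI : Fintype (↥(W₁ ⊔ W₂) →* ℂˣ) := Fintype.ofFinite _
  set X := g.tauGam j with hXdef
  have hX := g.isGen_tauGam hj
  let t : (↥L → ℂ) → ℤ := fun φ =>
    if h : φ ∈ memI L then
      (classInner_gen_int (cL.iso.2.2.2 _ (Isometry.mem_zS (cL.mem.1 h))) hX).choose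
    else 0
  have ht : ∀ φ ∈ memI L, classInner (τ₁ φ) X = (t φ : ℂ) := fun φ hφ => by
    simp only [t, dif_pos hφ]
    exact (classInner_gen_int (cL.iso.2.2.2 _ (Isometry.mem_zS (cL.mem.1 hφ))) hX).choose_spec
  obtain ⟨P₁, hP₁⟩ := classInner_gen_int cL.gen_Y hX
  obtain ⟨hLD, -⟩ := c.leftover g cL D.hη hj hj1 ht hP₁
  set q := Nat.card W₁ with hq
  set p := Nat.card W₂ with hp
  set m := Nat.card ↥(centU S U) with hm
  have hidx : (fittingHall L).index = q * p := by rw [c.index_fittingHall, hLD.e_eq]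
  have h2p : 2 * p ≤ m + 1 := (c.two_p_le hLD.e_eq).1
  have hw : ∀ φ ∈ memI L, wI L φ = 1 := fun φ hφ => wI_eq_one c hLD.core (cL.mem.1 hφ)
  have hsum := Tools.sum_sq_wI cL.hG cL.hL cL.hκ
  rw [Finset.sum_congr rfl (g := fun _ => 1) fun φ hφ => by rw [hw φ hφ, one_pow], Finset.sum_const,
    smul_eq_mul, mul_one, hidx, c.card_fittingHall, hLD.core, hLD.card_U, ← hm] at hsum
  set N := (memI L).card with hN
  have hm3 : 3 ≤ m := c.three_le
  have hp0 : 0 < p := Nat.card_pos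
  obtain ⟨φ₀, hφ₀, htφ₀⟩ : ∃ φ ∈ memI L, t φ = 0 := by
    by_contra hne
    push Not at hne
    have h1 : (N : ℤ) ≤ ∑ φ ∈ memI L, t φ ^ 2 := by
      rw [hN, Finset.card_eq_sum_ones, Nat.cast_sum]
      exact Finset.sum_le_sum fun φ hφ => by
        have := pow_two_pos_of_ne_zero (hne φ hφ)
        push_cast
        omega
    have h2 := mul_le_mul_of_nonneg_left h1 (show (0 : ℤ) ≤ q by positivity)
    rw [hLD.sum_sq, ← hm] at h2
    have h3 : q * N + 1 ≤ m := by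
      have : ((q * N + 1 : ℕ) : ℤ) ≤ (m : ℤ) := by push_cast; linarith
      exact_mod_cast this
    nlinarith [Nat.mul_le_mul_left p h3]
  -- re-centred at `φ₀`
  have cL' : LCtx L τ₁ φ₀ :=
    ⟨cL.hG, cL.hL, cL.hκ, cL.iso, cL.agree, cL.mem.1 hφ₀, hw φ₀ hφ₀⟩
  obtain ⟨P₀, hP₀⟩ := classInner_gen_int cL'.gen_Y hX
  obtain ⟨-, hcase⟩ := c.leftover g cL' D.hη hj hj1 ht hP₀
  rw [htφ₀, zero_add] at hcase
  obtain ⟨a, r, s, ha, ha1, hgrid, hr, hs⟩ := cL'.exists_coef_Y D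
  obtain ⟨y, hy⟩ := classInner_gen_int cL'.gen_Y (cL'.iso.2.2.2 _ (Isometry.mem_zS cL'.lam_mem))
  have hrel : P₀ = 1 - s + (y + 1) * ∑ φ ∈ memI L, t φ := by
    have h := hP₀
    rw [hLD.eq, classInner_add_right, classInner_sub_right, ha, ha, ha1, hs j hj hj1,
      classInner_sum_right, Finset.sum_congr rfl (g := fun φ => (((y + 1) * t φ : ℤ) : ℂ)) fun φ hφ => by
        rw [classInner_smul_right, map_intCast]
        by_cases e : φ = φ₀
        · subst e; simp [htφ₀]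
        · rw [cL'.Y_coef hy (cL'.mem.1 hφ) e, hw φ hφ]; push_cast; ring] at h
    rw [Finset.mul_sum]
    have h' : ((1 : ℤ) : ℂ) - (s : ℂ) + ((∑ φ ∈ memI L, (y + 1) * t φ : ℤ) : ℂ) = (P₀ : ℂ) := by
      rw [Int.cast_sum]; exact h
    exact_mod_cast h'.symm
  obtain ⟨hbud, -⟩ := cL'.budget D ha ha1 hgrid hr hs hy (∅ : Finset Unit) (fun _ _ => 0) (fun _ => 1)
    (by simp) (by simp) (by simp) (by simp) (u := fun _ => 0) (by simp)
  rw [Finset.sum_empty, add_zero, hidx,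
    Finset.sum_congr rfl (g := fun _ => 1) fun φ hφ => by rw [hw φ hφ, one_pow], Finset.sum_const,
    smul_eq_mul, mul_one, ← hN] at hbud
  have hbud' : eSq q p r s + y ^ 2 + ((N : ℤ) - 1) * (y + 1) ^ 2 ≤ (q : ℤ) * p + 1 := by
    exact_mod_cast hbud
  have hN1 : 1 ≤ N := Finset.card_pos.2 ⟨φ₀, hφ₀⟩
  have hodd : ∀ H : Subgroup G, Odd (Nat.card H) := odd_subgroup g.hG
  have h3 : ∀ {n : ℕ}, n.Prime → Odd n → 3 ≤ n := fun hn ho => by
    have := hn.two_le
    obtain ⟨k, hk⟩ := ho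
    omega
  have hp3 : 3 ≤ p := h3 g.hp (hodd _)
  have hq3 : 3 ≤ q := h3 g.hq (hodd _)
  have hy1 : y ≠ -1 := fun e => by
    subst e
    rw [neg_add_cancel, zero_mul, add_zero] at hrel
    have hs' : s = 1 - (p : ℤ) ∨ (5 ≤ (p : ℤ) ∧ s = 2 - p) := by
      rcases hcase with h | ⟨h, hmp⟩
      · left; linarith
      · right
        refine ⟨?_, by linarith⟩
        -- `q ∣ m - 1 = 2 (p - 1)`
        have hqm : q ∣ m - 1 := (Nat.modEq_iff_dvd' (by omega)).mp c.card_modEq.symm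
        rw [show m - 1 = 2 * (p - 1) by omega] at hqm
        rcases g.hq.dvd_mul.mp hqm with h2 | h2
        · have := Nat.le_of_dvd (by norm_num) h2; omega
        · obtain ⟨k, hk⟩ := h2
          obtain ⟨i, hi⟩ := hodd W₂
          rcases Nat.lt_or_ge k 2 with hk2 | hk2
          · interval_cases k
            · omega
            · obtain ⟨l, hl⟩ := hodd W₁; omega
          · have := Nat.mul_le_mul_left q hk2
            rw [← hk] at this; exact_mod_cast (show 5 ≤ p by omega)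
    have := Arith.bracket_ne (p := (p : ℤ)) (q := (q : ℤ)) (r := r) (by exact_mod_cast hp3)
      (by exact_mod_cast hq3) hs'
    simp only [eSq] at hbud'
    nlinarith
  have hE : (1 : ℤ) ≤ eSq q p r s := by
    simp only [eSq]
    have hq1 : (0 : ℤ) ≤ (q : ℤ) - 1 := by omega
    have hp1 : (0 : ℤ) ≤ (p : ℤ) - 1 := by omega
    nlinarith [mul_nonneg hq1 (sq_nonneg r), mul_nonneg hp1 (sq_nonneg s),
      mul_nonneg (mul_nonneg hq1 hp1) (sq_nonneg (r + s - 1))]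
  refine ⟨t, ht, hLD, ?_, ⟨q * N, ?_⟩, h2p⟩
  · refine Arith.m_le (e := q * p) (W := N) hy1 hsum rfl (by push_cast; linarith) (hodd _) ?_ hN1
    exact Nat.odd_mul.mpr ⟨hodd _, hodd _⟩
  · rw [← hsum, Nat.add_sub_cancel]; ring

end Cfsg.Agent.OddChar.TypeP.Centralizer
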