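import Cfsg.Agent.OddChar.TypeP.Tools.Gamma
import Cfsg.Agent.OddChar.TypeP.Tools.LData

/-!
# The `η`-part of `τΓ`
-/

set_option autoImplicit false
set_option linter.unusedSectionVars false
set_option linter.style.haveILetI false

namespace Cfsg.Agent.OddChar.TypeP.Centralizer

open Cfsg Subgroup
open Cfsg.Agent.Characters
open Cfsg.Agent.OddChar.TypeP.Tools (GHyp)

universe u

variable {G : Type u} [Group G] [Fintype G] {S W₁ U W₂ : Subgroup G} [Fintype S]

open Classical in
/-- The `η`-part of `τΓ` has norm at least `2`, and is `1 - η j` if it has norm `2`. -/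
theorem eta_part (g : GHyp S W₁ U W₂) {η : (↥(W₁ ⊔ W₂) →* ℂˣ) → G → ℂ}
    (hη : IsCyclicTIFamily W₁ W₂ η) [Fintype (↥(W₁ ⊔ W₂) →* ℂˣ)] {j : ↥(W₁ ⊔ W₂) →* ℂˣ}
    (hj : j ∈ rightSet W₁ W₂) (hj1 : j ≠ 1) {a : (↥(W₁ ⊔ W₂) →* ℂˣ) → ℤ}
    (ha : ∀ ω, classInner (g.tauGam j) (η ω) = (a ω : ℂ)) :
    2 ≤ ∑ ω, a ω ^ 2 ∧ (∑ ω, a ω ^ 2 ≤ 2 →
      ∀ ω, a ω = (if ω = 1 then 1 else 0) - (if ω = j then 1 else 0)) := by
  haveI : Fintype (leftSet W₁ W₂) := Fintype.ofFinite _
  haveI : Fintype (rightSet W₁ W₂) := Fintype.ofFinite _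
  have hW := g.hP.selfNormalizing
  haveI := hW.2.2.2.2.1
  set X := g.tauGam j with hXdef
  have hXc : IsClassFunction G X := isGen_isClassFunction (g.isGen_tauGam hj)
  set Y : G → ℂ := X - (η 1 - η j) with hY
  have hgen : ∀ ω, IsClassFunction G (η ω) := fun ω =>
    isGen_isClassFunction (Signed.IsSIrr.isGen (hη.irr_or_neg ω))
  have hYc : IsClassFunction G Y := fun x y => by
    simp only [hY, Pi.sub_apply, hXc x y, hgen 1 x y, hgen j x y]
  have hYV : ∀ w : ↥(W₁ ⊔ W₂), (w : G) ∉ W₁ → (w : G) ∉ W₂ → Y w = 0 := fun w h1 h2 => by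
    simp only [hY, hXdef, Pi.sub_apply, g.tauGam_apply_W hj w h1 h2, hη.eq_on _ w h1 h2,
      MonoidHom.one_apply, Units.val_one]
    ring
  let e : (↥(W₁ ⊔ W₂) →* ℂˣ) → ℤ := fun ω =>
    a ω - ((if ω = 1 then 1 else 0) - (if ω = j then 1 else 0))
  have he : ∀ ω, classInner Y (η ω) = (e ω : ℂ) := fun ω => by
    rw [hY, classInner_sub_left, classInner_sub_left, ha, hη.orthonormal, hη.orthonormal]
    simp only [e, eq_comm (a := ω)]
    push_cast
    ring
  have he1 : e 1 = 0 := by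
    have h : a 1 = 1 := by
      have := ha 1
      rw [hη.map_one, g.inner_tauGam_one hj hj1] at this
      exact_mod_cast this.symm
    simp [e, h, Ne.symm hj1]
  have hgrid : ∀ x : leftSet W₁ W₂ × rightSet W₁ W₂,
      e (Tools.cellEquiv hW x) = e x.1 + e x.2 := fun x => by
    rw [Tools.cellEquiv_apply, Tools.coef_grid hη hW hYc hYV he x.1.2 x.2.2, he1, sub_zero]
  have hne : Nat.card W₁ ≠ Nat.card W₂ := fun hh => by
    have := CyclicTI.card_coprime (CyclicTI.split_of hW)
    rw [hh, Nat.coprime_self] at this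
    exact g.hp.ne_one this
  have hodd : ∀ H : Subgroup G, Odd (Nat.card H) := odd_subgroup g.hG
  have h3 : ∀ {n : ℕ}, n.Prime → Odd n → 3 ≤ n := fun hn ho => by
    have := hn.two_le
    obtain ⟨t, ht⟩ := ho
    omega
  have key : ∑ ω, a ω ^ 2 ≤ 2 →
      ∀ ω, a ω = (if ω = 1 then 1 else 0) - (if ω = j then 1 else 0) := fun hle => by
    have hz := Tools.grid_eq_zero (I := leftSet W₁ W₂) (J := rightSet W₁ W₂)
      (by rw [← Nat.card_eq_fintype_card, Tools.card_leftSet hW]; exact h3 g.hq (hodd _))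
      (by rw [← Nat.card_eq_fintype_card, Tools.card_rightSet hW]; exact h3 g.hp (hodd _))
      (by simpa only [← Nat.card_eq_fintype_card, Tools.card_leftSet hW, Tools.card_rightSet hW]
        using hne)
      (by rw [← Nat.card_eq_fintype_card, Tools.card_leftSet hW]; exact hodd _)
      (by rw [← Nat.card_eq_fintype_card, Tools.card_rightSet hW]; exact hodd _)
      ⟨1, Tools.one_mem_leftSet⟩ ⟨1, Tools.one_mem_rightSet⟩ (fun i => e i) (fun j => e j) he1 he1
      ((Tools.cellEquiv hW).symm 1) ((Tools.cellEquiv hW).symm j)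
      (fun h => hj1 ((Tools.cellEquiv hW).symm.injective h).symm) 1 (Or.inl rfl) (by
        refine le_trans (le_of_eq ?_) hle
        rw [← (Tools.cellEquiv hW).sum_comp]
        refine Finset.sum_congr rfl fun x _ => ?_
        rw [← hgrid x]
        simp only [e, Equiv.eq_symm_apply]
        ring)
    intro ω
    obtain ⟨x, rfl⟩ := (Tools.cellEquiv hW).surjective ω
    have := (hgrid x).trans (hz x)
    simp only [e] at this
    linarith
  refine ⟨?_, key⟩
  by_contra hlt
  have hp := key (by omega)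
  have h2 : ∑ ω, a ω ^ 2 = 2 := by
    have : ∀ ω, a ω ^ 2 = (if ω = 1 then (1 : ℤ) else 0) + (if ω = j then 1 else 0) := fun ω => by
      rw [hp ω]
      by_cases h1 : ω = 1
      · simp [h1, Ne.symm hj1]
      · simp [h1]
    rw [Finset.sum_congr rfl fun ω _ => this ω, Finset.sum_add_distrib]
    simp
  omega

end Cfsg.Agent.OddChar.TypeP.Centralizer
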