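import Cfsg.Agent.OddChar.TypeP.Centralizer.Normalizer
import Cfsg.Agent.OddLocal.PTypeU2
import Cfsg.Agent.OddLocal.FPFFitting
import Cfsg.Agent.OddChar.TypeOne.Gap.Frob
import Cfsg.Agent.OddChar.TypeOne.Gap.Structure
import Cfsg.Agent.Lib.Coprime.FixedPointFree
import Cfsg.Agent.S1363

/-!
# The maximal subgroup over `N(U)` for `S` of type II
-/

set_option autoImplicit false
set_option linter.unusedSectionVars false

namespace Cfsg.Agent.OddChar.TypeP

open Cfsg Subgroup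
open Cfsg.Agent.OddLocal
open Cfsg.Agent.Transfer.Fusion (map_conj_eq_self_iff card_map_conj map_conj_mul)

universe u

variable {G : Type u} [Group G] [Finite G] {S T L W₁ W₂ U V : Subgroup G}

/-- Facts about a maximal subgroup `L` over `N(U)`. -/
structure OverData (S T W₁ U L : Subgroup G) : Prop where
  hL : IsCoatom L
  kappa : kappa L = ∅
  U_le : U ≤ sigmaCore L
  W₁_le : W₁ ≤ L
  inter : S ⊓ L = U ⊔ W₁
  compl : IsComplIn (L ⊓ T) (sigmaCore L) L

theorem PairData.over (h : PairData S T W₁ W₂ U V) (hG : IsMinSimpleOddOrder G) (hII : IsOfTypeII S)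
    (hL : IsCoatom L) (hN : normalizer (U : Set G) ≤ L) : OverData S T W₁ U L := by
  obtain ⟨hKU, -, hU1⟩ := h.decomp hG hII
  obtain ⟨w, c⟩ := h.exists_gen hG hII
  have hUL : U ≤ L := le_normalizer.trans hN
  have hKL : W₁ ≤ L := hKU.normal.trans hN
  have hwL : w ∈ L := hKL c.hu
  have hE := KappaDecomp.isCompl hKU
  have hLM : ∀ g : G, L ≠ S.map (MulAut.conj g).toMonoidHom := by
    intro g e
    set π : Set ℕ := {p | p ∣ Nat.card U}
    have hrel : U.relIndex S = Nat.card W₁ * Nat.card (sigmaCore S) := by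
      apply Nat.eq_of_mul_eq_mul_left (n := Nat.card U) Nat.card_pos
      rw [card_mul_relIndex hKU.compl.1, ← Compl.card_mul hE, KappaDecomp.card_compl hKU, mul_assoc]
    have hHall : IsPiHallOf π (U.map (MulAut.conj g).toMonoidHom) L := by
      rw [e]
      refine ⟨map_mono hKU.compl.1, fun p _ hd => by rwa [card_map_conj] at hd, fun p hp hπ => ?_⟩
      rw [relIndex_map_map_of_injective _ _ (MulAut.conj g).injective, hrel]
      intro hd
      rcases hp.dvd_mul.mp hd with h1 | h1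
      · exact KappaDecomp.not_kappa_of_dvd hKU hp hπ (hKU.hall.2.1 p hp h1)
      · exact Compl.not_dvd_sigmaCore hp (KappaDecomp.not_sigma_of_dvd hG h.hS hKU hp hπ) h1
    obtain ⟨m, hm, hle⟩ := PType.exists_conj_le_hall hG hL hHall hUL fun p _ hd => hd
    rw [← map_conj_mul] at hle
    have heq : U = U.map (MulAut.conj (m * g)).toMonoidHom :=
      eq_of_le_of_card_ge hle (by rw [card_map_conj])
    have hy : m * g ∈ L := hN (map_conj_eq_self_iff.mp heq.symm)
    have hgL : g ∈ L := by simpa using mul_mem (inv_mem hm) hy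
    have hLS : L = S := by
      have h1 : L.map (MulAut.conj g).toMonoidHom = L := map_conj_eq_self_iff.mpr (le_normalizer hgL)
      exact map_injective (MulAut.conj g).injective (h1.trans e)
    exact (S1363.result hG S h.hS W₁ U hKU h.hSP.W₁_ne).2 (hLS ▸ hN)
  have hσ : orderOf w ∉ sigma L := fun hw => by
    obtain rfl := c.eq_partner hL hwL hw
    obtain ⟨x, hx, hx1⟩ := (bot_or_exists_ne_one U).resolve_left hU1
    exact hx1 (c.fpf hx (c.h.comm (mem_sup_left c.hu)
      (c.h.inter.le (mem_inf.mpr ⟨hKU.compl.1 hx, hUL hx⟩))))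
  have hUσ : U ≤ sigmaCore L := fun x hx =>
    SigmaParts.mem_core_of_piEl hG hL (hUL hx) fun p hp hpd => by
      have := Fact.mk hp
      exact c.sigma_of_U hL hLM hwL hσ (hpd.trans (orderOf_dvd_natCard U hx)) hUL
  have hinter : S ⊓ L = U ⊔ W₁ := by
    refine le_antisymm (fun m hm => ?_) (le_inf hE.1 (sup_le hUL hKL))
    obtain ⟨hmS, hmL⟩ := mem_inf.mp hm
    obtain ⟨e, he, s, hs, rfl⟩ := hE.2.2.2 m hmS
    have hsL : s ∈ L := by
      have := mul_mem (inv_mem ((sup_le hUL hKL) he)) hmL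
      rwa [inv_mul_cancel_left] at this
    have hsC : s ∈ sigmaCore S ⊓ centralizer (U : Set G) := mem_inf.mpr ⟨hs,
      mem_centralizer_iff.mpr fun a ha => (KappaOver.inter_comm hG h.hS hL hLM hs hsL (hUσ ha)
        (hKU.compl.1 ha)).symm⟩
    rw [(PType.fixed_eq_bot hG h.hS c.h.hK c.data c.notP1).1, mem_bot] at hsC
    rwa [hsC, mul_one]
  obtain ⟨E, B, hE', hET, -, -, -, -⟩ := c.compl_le hL hLM hσ hwL
  have hEeq : L ⊓ T = E := by
    refine le_antisymm (fun x hx => ?_) (le_inf hE'.1 hET)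
    obtain ⟨hxL, hxT⟩ := mem_inf.mp hx
    obtain ⟨e, he, s, hs, rfl⟩ := hE'.2.2.2 x hxL
    have hsT : s ∈ T := by
      have := mul_mem (inv_mem (hET he)) hxT
      rwa [inv_mul_cancel_left] at this
    have hs1 : s ∈ sigmaCore L ⊓ T := mem_inf.mpr ⟨hs, hsT⟩
    rw [c.core_inf_partner hL hLM hσ hwL, mem_bot] at hs1
    rwa [hs1, mul_one]
  exact ⟨hL, c.kappa_empty hL hLM hσ, hUσ, hKL, hinter, hEeq.symm ▸ hE'⟩

theorem OverData.typeI (o : OverData S T W₁ U L) (hG : IsMinSimpleOddOrder G) : IsOfTypeI L :=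
  TypeOne.Gap.typeI_of_kappa hG o.hL o.kappa

theorem OverData.core_eq (o : OverData S T W₁ U L) (hG : IsMinSimpleOddOrder G) :
    sigmaCore L = fittingHallOf L :=
  TypeOne.Gap.core_eq_fittingHallOf hG o.hL o.kappa

/-- The complement acts freely on `L_F`. -/
theorem OverData.fpf (o : OverData S T W₁ U L) (hG : IsMinSimpleOddOrder G) {a : G}
    (ha : a ∈ L ⊓ T) (ha1 : a ≠ 1) : sigmaCore L ⊓ centralizer ({a} : Set G) = ⊥ := by
  rw [eq_bot_iff]
  intro x hx
  obtain ⟨hxσ, hxa⟩ := mem_inf.mp hx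
  rw [mem_bot]
  by_contra hx1
  have h1 : a ∈ sigmaCore L := TypeOne.Gap.inf_centralizer_le hG o.hL o.kappa hxσ hx1
    (mem_inf.mpr ⟨(mem_inf.mp ha).1, mem_centralizer_singleton_iff.mpr
      (mem_centralizer_singleton_iff.mp hxa).symm⟩)
  exact ha1 (mem_bot.mp (o.compl.2.2.1.le (mem_inf.mpr ⟨ha, h1⟩)))

theorem OverData.W₁_le_compl (o : OverData S T W₁ U L) (h : PairData S T W₁ W₂ U V) :
    W₁ ≤ L ⊓ T :=
  le_inf o.W₁_le ((W₂_le_H h.hTP).trans (H_le_M T))

/-- The complement meets `T_F` in `W₁`. -/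
theorem OverData.inf_eq (o : OverData S T W₁ U L) (hG : IsMinSimpleOddOrder G)
    (h : PairData S T W₁ W₂ U V) (hf : Partner T W₂ V W₁) :
    L ⊓ T ⊓ fittingHallOf T = W₁ := by
  set A := L ⊓ T ⊓ fittingHallOf T with hA
  have hWA : W₁ ≤ A := le_inf (o.W₁_le_compl h) (W₂_le_H h.hTP)
  haveI : IsMulCommutative A :=
    ⟨⟨fun a b => Subtype.ext (hf.comm (mem_inf.mp a.2).2 (mem_inf.mp b.2).2)⟩⟩
  have hcyc : IsCyclic A := Cfsg.Agent.Coprime.fpf_isCyclic_of_abelian (K := sigmaCore L)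
    ((inf_le_left.trans inf_le_left).trans (Sigma.le_normalizer_sigmaCore L))
    (fun a ha ha1 => o.fpf hG (mem_inf.mp ha).1 ha1) (Sigma.sigmaCore_ne_bot hG o.hL)
  refine (eq_of_le_of_card_ge hWA ?_).symm
  obtain ⟨g, hg⟩ := hcyc.exists_generator
  have h1 : orderOf g = Nat.card A := orderOf_eq_card_of_forall_mem_zpowers hg
  rw [← h1, ← orderOf_coe]
  exact Nat.le_of_dvd Nat.card_pos
    (orderOf_dvd_of_pow_eq_one (hf.el.2 _ (mem_inf.mp g.2).2))

/-- The complement is `W₁` or `W₁ W₂^y`. -/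
theorem OverData.compl_cases (o : OverData S T W₁ U L) (hG : IsMinSimpleOddOrder G)
    (h : PairData S T W₁ W₂ U V) (hf : Partner T W₂ V W₁) :
    L ⊓ T = W₁ ∨ ∃ y ∈ fittingHallOf T, L ⊓ T = W₁ ⊔ W₂.map (MulAut.conj y).toMonoidHom ∧
      Nat.card ↥(L ⊓ T) = Nat.card W₁ * Nat.card W₂ := by
  set E := L ⊓ T with hE
  set Q := fittingHallOf T with hQ
  have hEQW : E ≤ Q ⊔ W₂ := by
    rw [← hf.inter_normalizer h hG, ← o.inf_eq hG h hf]
    exact le_inf inf_le_right ((le_inf le_normalizer (inf_le_right.trans (M_le_normalizer_H T))).trans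
      Subgroup.inf_normalizer_le_normalizer_inf)
  by_cases hsmall : E ≤ W₁
  · exact Or.inl (le_antisymm hsmall (o.W₁_le_compl h))
  right
  set R := Q ⊔ W₂ with hR
  have hWn : W₂ ≤ normalizer (Q : Set G) := (W₁_le_M h.hTP).trans (M_le_normalizer_H T)
  have hdisj : Q ⊓ W₂ = ⊥ := le_bot_iff.mp
    ((inf_le_inf_right W₂ (H_le_derived h.hTP)).trans h.hTP.W₁_compl.2.2.1.le)
  have hcardR : Nat.card R = Nat.card Q * Nat.card W₂ :=
    Coprime.card_sup_of_disjoint hWn (disjoint_iff.mpr hdisj)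
  -- `[E : W₁]` divides `p`
  haveI : (Q.subgroupOf R).Normal := normal_subgroupOf_of_le_normalizer (sup_le le_normalizer hWn)
  have hidx : (Q.subgroupOf R).index = Nat.card W₂ := by
    apply Nat.eq_of_mul_eq_mul_left (n := Nat.card Q) Nat.card_pos
    rw [← hcardR]
    exact card_mul_relIndex le_sup_left
  have hdvd : W₁.relIndex E ∣ Nat.card W₂ := by
    have h1 := relIndex_dvd_index_of_normal (Q.subgroupOf R) (E.subgroupOf R)
    rw [relIndex_subgroupOf hEQW, hidx] at h1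
    rwa [← inf_relIndex_right, inf_comm, o.inf_eq hG h hf] at h1
  have hcardE : Nat.card E = Nat.card W₁ * Nat.card W₂ := by
    rw [← card_mul_relIndex (o.W₁_le_compl h), ((Nat.dvd_prime hf.hp).mp hdvd).resolve_left
      fun e => hsmall (relIndex_eq_one.mp e)]
  -- a conjugate of `W₂` in `E`
  have := Fact.mk hf.hp
  obtain ⟨b, hb⟩ := exists_prime_orderOf_dvd_card' (G := E) (Nat.card W₂)
    (hcardE ▸ dvd_mul_left _ _)
  rw [← orderOf_coe] at hb
  have hHallR : IsPiHall {Nat.card W₂} (W₂.subgroupOf R) := by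
    refine ⟨fun p hp hd => ?_, fun p hp hπ hd => ?_⟩
    · rw [Nat.card_congr (subgroupOfEquivOfLe (le_sup_right : W₂ ≤ R)).toEquiv] at hd
      exact (Nat.prime_dvd_prime_iff_eq hp hf.hp).mp hd
    · rw [Set.mem_singleton_iff] at hπ
      have e : (W₂.subgroupOf R).index = Nat.card Q := by
        apply Nat.eq_of_mul_eq_mul_left (n := Nat.card W₂) Nat.card_pos
        rw [mul_comm _ (Nat.card Q), ← hcardR]
        exact card_mul_relIndex le_sup_right
      rw [e, hf.card, hπ] at hd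
      have e2 := (Nat.prime_dvd_prime_iff_eq hf.hp hf.hq).mp (hf.hp.dvd_of_dvd_pow hd)
      refine h.hSP.W₁_ne ?_
      have hco := (coprime_derived_W₁ h.hTP).coprime_dvd_left
        (card_dvd_of_le ((W₂_le_H h.hTP).trans (H_le_derived h.hTP)))
      rw [e2, Nat.coprime_self] at hco
      exact absurd hco hf.hq.ne_one
  haveI : Group.IsSolvable R :=
    Transitivity.isSolvable_of_ne_top hG fun e => h.hT.1 (top_le_iff.mp
      (e ▸ sup_le (H_le_M T) (W₁_le_M h.hTP)))
  obtain ⟨H₀, hH₀, hdom⟩ := Hall.exists_hall_dominating {Nat.card W₂} R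
  obtain ⟨r, hr⟩ := hdom _ hHallR.1
  have hr' := eq_of_le_of_card_ge hr
    (by rw [Coprime.card_conj_smul, Hall.card_eq_of_isPiHall hH₀ hHallR])
  obtain ⟨s, hs⟩ := hdom ((zpowers (b : G)).subgroupOf R) fun p hp hd => by
    rw [Nat.card_congr (subgroupOfEquivOfLe (zpowers_le.mpr (hEQW b.2))).toEquiv, Nat.card_zpowers,
      hb] at hd
    exact (Nat.prime_dvd_prime_iff_eq hp hf.hp).mp hd
  have hbmem := hs (show (⟨(b : G), hEQW b.2⟩ : R) ∈ (zpowers (b : G)).subgroupOf R from mem_zpowers _)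
  rw [Coprime.mem_conj_smul] at hbmem
  set k : R := s * r⁻¹ with hk
  have hbk : (k : G)⁻¹ * b * k ∈ W₂ := by
    have h1 : k⁻¹ * ⟨(b : G), hEQW b.2⟩ * k ∈ W₂.subgroupOf R := by
      rw [hr', Coprime.mem_conj_smul]
      simpa [hk, mul_assoc] using hbmem
    exact h1
  obtain ⟨y, hy, a, ha, hya⟩ := KappaDecomp.exists_mul_sup hWn k.2
  have hby : y⁻¹ * b * y ∈ W₂ := by
    have := mul_mem (mul_mem ha hbk) (inv_mem ha)
    rw [hya] at this
    simpa [mul_assoc] using this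
  have hWy : W₂.map (MulAut.conj y).toMonoidHom ≤ E := by
    have hgen : zpowers (b : G) = W₂.map (MulAut.conj y).toMonoidHom := by
      refine eq_of_le_of_card_ge (zpowers_le.mpr ⟨_, hby, by simp [mul_assoc]⟩) ?_
      rw [card_map_conj, Nat.card_zpowers, hb]
    exact hgen ▸ zpowers_le.mpr b.2
  refine ⟨y, hy, (eq_of_le_of_card_ge (sup_le (o.W₁_le_compl h) hWy) ?_).symm, hcardE⟩
  rw [hcardE]
  refine Nat.le_of_dvd Nat.card_pos ((Nat.Coprime.mul_dvd_of_dvd_of_dvd ?_
    (card_dvd_of_le le_sup_left)) ((dvd_of_eq (card_map_conj W₂ y).symm).trans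
      (card_dvd_of_le le_sup_right)))
  exact (coprime_derived_W₁ h.hSP).symm.coprime_dvd_right
    (card_dvd_of_le ((W₂_le_H h.hSP).trans (H_le_derived h.hSP)))

theorem OverData.sup_compl (o : OverData S T W₁ U L) : sigmaCore L ⊔ (L ⊓ T) = L :=
  le_antisymm (sup_le (Sigma.sigmaCore_le L) inf_le_left) fun m hm => by
    obtain ⟨e, he, s, hs, rfl⟩ := o.compl.2.2.2 m hm
    exact mul_mem (mem_sup_right he) (mem_sup_left hs)

theorem over_of_centralizer (hPr : PrimesStatement.{u}) (hFc : FcoreStatement.{u})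
    (h3 : TypeThreeStatement.{u}) (h5 : NoTypeVStatement.{u}) (hC : CentralizerStatement.{u}) :
    OverStatement.{u} := by
  intro G _ _ hG S T W₁ W₂ U V h hII L hL hN
  have hf := Partner.of_statements hPr hFc h3 h5 h hG (hC hG T S W₂ W₁ V U h.symm)
  have o := h.over hG hII hL hN
  have hσ := o.core_eq hG
  refine ⟨fun x hx hx1 => ?_, hσ ▸ o.U_le, ?_⟩
  · rw [← hσ] at hx ⊢
    exact TypeOne.Gap.inf_centralizer_le hG hL o.kappa hx hx1
  · rw [← hσ]
    rcases o.compl_cases hG h hf with e | ⟨y, hy, e, -⟩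
    · exact Or.inl ⟨by rw [inf_comm, ← e]; exact o.compl.2.2.1, by rw [← e]; exact o.sup_compl⟩
    · exact Or.inr ⟨y, hy, by rw [inf_comm, ← e]; exact o.compl.2.2.1, by rw [← e]; exact o.sup_compl⟩

end Cfsg.Agent.OddChar.TypeP
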