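import Cfsg.Agent.OddChar.TypeP.Centralizer.Main
import Cfsg.Agent.OddChar.TypeP.Centralizer.Over
import Cfsg.Agent.OddChar.TypeP.Pair.Fcore
import Cfsg.Agent.OddChar.TypeP.Chief

/-!
# `N(W₁)` and the maximal subgroup over `N(U)`, unconditionally
-/

set_option autoImplicit false

namespace Cfsg.Agent.OddChar.TypeP

universe u

theorem normalizerW₁_proof : NormalizerW₁Statement.{u} :=
  normalizerW₁_of_centralizer (Pair.primes noTypeV)
    (Pair.fcore noTypeV TypeThree.typeThree chiefStatement_proof) TypeThree.typeThree noTypeV
    Centralizer.centralizer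

theorem over_proof : OverStatement.{u} :=
  over_of_centralizer (Pair.primes noTypeV)
    (Pair.fcore noTypeV TypeThree.typeThree chiefStatement_proof) TypeThree.typeThree noTypeV
    Centralizer.centralizer

end Cfsg.Agent.OddChar.TypeP
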