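import Cfsg.Agent.OddChar.TypeP.Tools.LFacts
import Cfsg.Agent.Lib.Characters.Inner

/-!
# The coefficients on the family of `L` of a function with known averages on `A(L)`
-/

set_option autoImplicit false
set_option linter.unusedSectionVars false
set_option linter.style.haveILetI false

namespace Cfsg.Agent.OddChar.TypeP.Centralizer

open Cfsg Subgroup
open Cfsg.Agent.Characters Cfsg.Agent.OddChar.TypeP.Tools
open scoped ComplexConjugate

universe u

variable {G : Type u} [Group G] [Fintype G] {L : Subgroup G} [Fintype L]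
  {τ₁ : (↥L → ℂ) → G → ℂ} {lam : ↥L → ℂ}

/-- An irreducible character outside the family has `L_F` in its kernel. -/
theorem apply_eq_one_of_notMem (c : LCtx L τ₁ lam) {χ : ↥L → ℂ} (hχ : IsIrrCharacter ↥L χ)
    (hn : χ ∉ famI L) (y : fittingHall L) : χ y = χ 1 := by
  classical
  haveI : Fintype (fittingHall L) := Fintype.ofFinite _
  haveI := Fintype.ofFinite (IrrCharacter (fittingHall L))
  have hres : IsClassFunction (fittingHall L) (fun y : fittingHall L => χ y) :=
    classFun_restrict _ (char_isClassFunction (isCharacter_of_isIrr hχ))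
  have h0 : ∀ θ : IrrCharacter (fittingHall L), θ ≠ trivIrr _ →
      classInner (fun y : fittingHall L => χ y) (θ : fittingHall L → ℂ) = 0 := fun θ hθ => by
    have hne : (θ : fittingHall L → ℂ) ≠ fun _ => 1 := fun e => hθ (Subtype.ext e)
    have hmem : indFun (fittingHall L) (θ : fittingHall L → ℂ) ∈ famI L :=
      ⟨θ, θ.2, hne, fun a ha => by rw [show a = 1 from Subtype.ext (mem_bot.1 ha)], rfl⟩
    rw [← frobenius_reciprocity' _ _ (char_isClassFunction (isCharacter_of_isIrr hχ))]
    exact classInner_isIrr_ne hχ (c.irr hmem) fun e => hn (e ▸ hmem)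
  have h := classFun_eq_sum hres
  rw [Finset.sum_eq_single (trivIrr _) (fun θ _ hθ => by rw [h0 θ hθ, zero_smul])
    (fun hn' => absurd (Finset.mem_univ _) hn')] at h
  have e1 := congrFun h y
  have e2 := congrFun h 1
  simp only [Pi.smul_apply, smul_eq_mul] at e1 e2
  rw [e1, show χ 1 = χ ((1 : fittingHall L) : ↥L) from rfl, e2]
  rfl

open Classical in
/-- The characters outside the family. -/
noncomputable def compI (L : Subgroup G) [Fintype L] [Fintype (IrrCharacter L)] :
    Finset (IrrCharacter L) :=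
  Finset.univ.filter fun χ : IrrCharacter L => (χ : ↥L → ℂ) ∉ famI L

theorem mem_compI [Fintype (IrrCharacter L)] {χ : IrrCharacter L} :
    χ ∈ compI L ↔ (χ : ↥L → ℂ) ∉ famI L := by simp [compI]

theorem sum_irr_split (c : LCtx L τ₁ lam) [Fintype (IrrCharacter L)] (f : (↥L → ℂ) → ℂ) :
    ∑ χ : IrrCharacter L, f χ = (∑ φ ∈ memI L, f φ) + ∑ χ ∈ compI L, f χ := by
  classical
  rw [compI, ← Finset.sum_filter_add_sum_filter_not Finset.univ
    (fun χ : IrrCharacter L => (χ : ↥L → ℂ) ∈ famI L) fun χ => f χ]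
  congr 1
  · refine Finset.sum_bij (fun χ _ => (χ : ↥L → ℂ)) (fun χ hχ => c.mem.2 (Finset.mem_filter.1 hχ).2)
      (fun _ _ _ _ e => Subtype.ext e) (fun φ hφ => ?_) fun _ _ => rfl
    exact ⟨⟨φ, c.irr (c.mem.1 hφ)⟩, Finset.mem_filter.2 ⟨Finset.mem_univ _, c.mem.1 hφ⟩, rfl⟩

theorem sum_sq_compI (c : LCtx L τ₁ lam) [Fintype (IrrCharacter L)] :
    ∑ χ ∈ compI L, (χ : ↥L → ℂ) 1 ^ 2 = ((fittingHall L).index : ℂ) := by
  have h := sum_degree_sq (G := ↥L)
  rw [sum_irr_split c fun f => f 1 ^ 2,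
    Finset.sum_congr rfl (g := fun φ : ↥L → ℂ =>
      ((fittingHall L).index : ℂ) * (((fittingHall L).index * wI L φ ^ 2 : ℕ) : ℂ)) fun φ hφ => by
      rw [(degree_famI (c.mem.1 hφ)).2]; push_cast; ring,
    ← Finset.mul_sum] at h
  have hs := congrArg (fun n : ℕ => (n : ℂ)) (sum_sq_wI c.hG c.hL c.hκ)
  rw [Finset.mul_sum] at hs
  simp only [Nat.cast_add, Nat.cast_sum, Nat.cast_one] at hs
  rw [← Subgroup.card_mul_index (fittingHall L), Nat.cast_mul, ← hs] at h
  linear_combination h

variable {F : ↥L → ℂ} (hF : ∀ x, x ∉ fittingHall L → F x = 0)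

include hF in
theorem inner_compI (c : LCtx L τ₁ lam) [Fintype (IrrCharacter L)] {χ : IrrCharacter L}
    (hχ : χ ∈ compI L) :
    classInner F (χ : ↥L → ℂ) = (χ : ↥L → ℂ) 1 * classInner F (fun _ => 1) := by
  classical
  have hn : (χ : ↥L → ℂ) ∉ famI L := by
    exact mem_compI.1 hχ
  obtain ⟨k, hk⟩ := char_one_nat (irr_isCharacter χ)
  rw [classInner_def, classInner_def, mul_left_comm]
  congr 1
  rw [Finset.mul_sum]
  refine Finset.sum_congr rfl fun x _ => ?_
  by_cases hx : x ∈ fittingHall L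
  · rw [apply_eq_one_of_notMem c χ.2 hn ⟨x, hx⟩, hk, Complex.conj_natCast, map_one]
    ring
  · simp [hF x hx]

include hF in
theorem norm_eq (c : LCtx L τ₁ lam) (hFc : IsClassFunction ↥L F) :
    classInner F F = (∑ φ ∈ memI L, classInner F φ * conj (classInner F φ)) +
      ((fittingHall L).index : ℂ) *
        (classInner F (fun _ => 1) * conj (classInner F (fun _ => 1))) := by
  haveI := Fintype.ofFinite (IrrCharacter L)
  rw [classInner_eq_sum F hFc,
    Finset.sum_congr rfl fun χ _ => by rw [classInner_conj_symm F (χ : ↥L → ℂ)],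
    sum_irr_split c fun φ => classInner F φ * conj (classInner F φ), ← sum_sq_compI c, Finset.sum_mul]
  congr 1
  refine Finset.sum_congr rfl fun χ hχ => ?_
  obtain ⟨k, hk⟩ := char_one_nat (irr_isCharacter χ)
  rw [inner_compI hF c hχ, map_mul, hk, Complex.conj_natCast]
  ring

include hF in
theorem apply_one_eq (c : LCtx L τ₁ lam) (hFc : IsClassFunction ↥L F) :
    F 1 = (∑ φ ∈ memI L, classInner F φ * φ 1) +
      ((fittingHall L).index : ℂ) * classInner F (fun _ => 1) := by
  haveI := Fintype.ofFinite (IrrCharacter L)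
  conv_lhs => rw [classFun_eq_sum hFc]
  simp only [Finset.sum_apply, Pi.smul_apply, smul_eq_mul]
  rw [sum_irr_split c fun φ => classInner F φ * φ 1, ← sum_sq_compI c, Finset.sum_mul]
  congr 1
  exact Finset.sum_congr rfl fun χ hχ => by rw [inner_compI hF c hχ]; ring

omit hF

open Classical in
/-- The squared coefficients on the family of a function whose averages are `ub` on `K₀` and `0`
elsewhere on `A(L)`. -/
theorem coef_eqs (c : LCtx L τ₁ lam) {X : G → ℂ} (hX : IsClassFunction G X) {K₀ : Set G}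
    (hK₀ : K₀ ⊆ typeA L) (hinv : ∀ a ∈ K₀, ∀ y : ↥L, (y : G) * a * (y : G)⁻¹ ∈ K₀) {ub : ℕ}
    (hρ : ∀ a ∈ typeA L, TypeOne.Gap.rho (supportR L) X a = if a ∈ K₀ then (ub : ℂ) else 0)
    {t : (↥L → ℂ) → ℤ} (ht : ∀ φ ∈ memI L, classInner (τ₁ φ) X = (t φ : ℂ))
    {P₀ : ℤ} (hP₀ : classInner (YI L lam) X = (P₀ : ℂ)) :
    let e : ℤ := (fittingHall L).index
    let h : ℤ := Nat.card (fittingHall L)
    let N₀ : ℤ := Nat.card {x : ↥L // (x : G) ∈ K₀}
    let z : ℤ := h * (t lam + P₀) - ub * N₀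
    e * h * ∑ φ ∈ memI L, t φ ^ 2 = (ub : ℤ) ^ 2 * N₀ + z ^ 2 - h * (t lam + P₀) ^ 2 ∧
      e * ∑ φ ∈ memI L, (wI L φ : ℤ) * t φ = z - (t lam + P₀) := by
  intro e h N₀ z
  haveI := Tools.fittingHall_normal c.hG c.hL c.hκ
  have hmemK : ∀ x : ↥L, (x : G) ∈ K₀ → x ∈ fittingHall L ∧ x ≠ 1 := fun x hx => by
    have hA := hK₀ hx
    rw [typeA_eq_core c.hG c.hL c.hκ] at hA
    exact ⟨(mem_fittingHall_iff c.hG c.hL c.hκ).2 hA.1, fun e => hA.2 (by simp [e])⟩
  set f : ↥L → ℂ := fun x => if (x : G) ∈ K₀ then (ub : ℂ) else 0 with hf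
  set F : ↥L → ℂ := fun x => if x = 1 then (z : ℂ) else f x with hFdef
  have hF : ∀ x, x ∉ fittingHall L → F x = 0 := fun x hx => by
    simp only [hFdef, hf]
    rw [if_neg (show ¬ x = 1 from fun h1 => hx (h1 ▸ one_mem _)), if_neg fun hk => hx (hmemK x hk).1]
  have hKiff : ∀ x y : ↥L, ((y * x * y⁻¹ : ↥L) : G) ∈ K₀ ↔ (x : G) ∈ K₀ := fun x y =>
    ⟨fun h => by simpa [mul_assoc] using hinv _ h y⁻¹, fun h => by simpa using hinv _ h y⟩
  have hFc : IsClassFunction ↥L F := fun x y => by
    simp only [hFdef, hf, conj_eq_one_iff, hKiff]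
  have hL0 : ((Nat.card ↥L : ℕ) : ℂ) = (e : ℂ) * (h : ℂ) := by
    rw [← Subgroup.card_mul_index (fittingHall L)]; simp [e, h, mul_comm]
  have he : (e : ℂ) ≠ 0 := by simp [e, Subgroup.index_ne_zero_of_finite]
  have hh : (h : ℂ) ≠ 0 := by simp [h, Nat.card_pos.ne']
  have hsum : ∀ (b : ℂ) (α : ↥L → ℂ), ∑ x : ↥L, α x * (if (x : G) ∈ K₀ then b else 0) =
      b * ∑ x ∈ Finset.univ.filter (fun x : ↥L => (x : G) ∈ K₀), α x := fun b α => by
    rw [Finset.mul_sum, Finset.sum_filter]
    exact Finset.sum_congr rfl fun x _ => by split_ifs <;> ring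
  have hN : ((Finset.univ.filter fun x : ↥L => (x : G) ∈ K₀).card : ℂ) = (N₀ : ℂ) := by
    simp [N₀, Nat.card_eq_fintype_card, Fintype.card_subtype]
  -- inner products with `f`
  have hinner : ∀ {α : ↥L → ℂ}, IsClassFunction ↥L α → (∀ x : ↥L, (x : G) ∉ typeA L → α x = 0) →
      classInner (tauI L α) X = classInner α f := fun {α} hα hαA => by
    rw [tauI, TypeOne.Gap.inner_rho c.dadeI hα hαA hX, classInner_def, classInner_def]
    refine congrArg _ (Finset.sum_congr rfl fun x _ => ?_)
    by_cases hx : (x : G) ∈ typeA L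
    · rw [hρ _ hx]
    · rw [hαA x hx, zero_mul, zero_mul]
  have hbase : classInner (indFun (fittingHall L) (fun _ => (1 : ℂ))) f = (ub : ℂ) * N₀ / h := by
    haveI : Fintype (fittingHall L) := Fintype.ofFinite _
    rw [classInner_def, hL0]
    simp only [hf, apply_ite conj, Complex.conj_natCast, map_zero]
    rw [hsum, Finset.sum_congr rfl (g := fun _ => (e : ℂ)) fun x hx => by
      rw [show indFun (fittingHall L) (fun _ => (1 : ℂ)) x =
        indFun (fittingHall L) (fun _ => (1 : ℂ)) ((⟨x, (hmemK x (Finset.mem_filter.1 hx).2).1⟩ :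
          fittingHall L) : ↥L) from rfl, Induce.indFun_apply_normal, Finset.sum_const,
        Finset.card_univ, nsmul_eq_mul, mul_one, ← Nat.card_eq_fintype_card,
        ← Subgroup.card_mul_index (fittingHall L), Nat.cast_mul,
        inv_mul_cancel_left₀ (Nat.cast_ne_zero.2 Nat.card_pos.ne')]
      simp [e],
      Finset.sum_const, nsmul_eq_mul, hN]
    field_simp
  have hlam : classInner lam f = (ub : ℂ) * N₀ / h - P₀ := by
    have := hP₀
    rw [YI, hinner (isGen_isClassFunction c.base_gen) c.base_supp, classInner_sub_left, hbase] at this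
    linear_combination -this
  have hφf : ∀ φ ∈ memI L, classInner φ f = (t φ : ℂ) - (wI L φ : ℂ) * (t lam) +
      (wI L φ : ℂ) * ((ub : ℂ) * N₀ / h - P₀) := fun φ hφ => by
    have hm := c.mem.1 hφ
    have := hinner (isGen_isClassFunction (isGen_famI (c.diff_mem hm).1)) (c.supp (c.diff_mem hm))
    rw [← c.image_diff hm, classInner_sub_left, classInner_sub_left, Coherence.inner_smul_int_left,
      Coherence.inner_smul_int_left, ht φ hφ, ht lam (c.mem.2 c.lam_mem), hlam, Int.cast_natCast] at this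
    linear_combination -this
  have hsplit : ∀ x : ↥L, F x = (if x = 1 then (z : ℂ) else 0) + f x := fun x => by
    simp only [hFdef]
    split_ifs with h1
    · rw [h1, hf]; dsimp only; rw [if_neg fun e => (hmemK 1 e).2 rfl, add_zero]
    · rw [zero_add]
  have hFφ : ∀ φ ∈ memI L, classInner F φ = (t φ : ℂ) := fun φ hφ => by
    have hd := (degree_famI (c.mem.1 hφ)).2
    have h1 : classInner F φ = conj (classInner φ f) + (Nat.card ↥L : ℂ)⁻¹ * ((z : ℂ) * conj (φ 1)) := by
      rw [← classInner_conj_symm φ f, classInner_def, classInner_def, ← mul_add]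
      congr 1
      rw [Finset.sum_congr rfl fun x _ => by rw [hsplit, add_mul, ite_mul, zero_mul],
        Finset.sum_add_distrib, Finset.sum_ite_eq' Finset.univ (1 : ↥L), if_pos (Finset.mem_univ _),
        add_comm]
    rw [h1, hφf φ hφ, hd, hL0]
    simp only [map_add, map_sub, map_mul, map_div₀, map_intCast, map_natCast, e, Int.cast_natCast]
    simp only [e, Int.cast_natCast] at he
    field_simp
    simp only [z]
    push_cast
    ring
  have hF1 : classInner F (fun _ => 1) = ((t lam : ℂ) + P₀) / e := by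
    rw [classInner_def, hL0]
    simp only [map_one, mul_one]
    rw [Finset.sum_congr rfl fun x _ => hsplit x, Finset.sum_add_distrib,
      Finset.sum_ite_eq' Finset.univ (1 : ↥L), if_pos (Finset.mem_univ _), hf,
      Finset.sum_ite, Finset.sum_const, Finset.sum_const_zero, add_zero, nsmul_eq_mul, hN]
    field_simp
    simp only [z]
    push_cast
    ring
  have hFF : classInner F F = ((ub : ℂ) ^ 2 * N₀ + (z : ℂ) ^ 2) / (e * h) := by
    rw [classInner_def, hL0]
    have : ∀ x : ↥L, F x * conj (F x) = (if x = 1 then (z : ℂ) ^ 2 else 0) +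
        (if (x : G) ∈ K₀ then (ub : ℂ) ^ 2 else 0) := fun x => by
      simp only [hFdef, hf]
      by_cases h1 : x = 1
      · rw [if_pos h1, if_pos h1, if_neg fun e => (hmemK x e).2 h1, map_intCast]
        ring
      · rw [if_neg h1, if_neg h1]
        split_ifs <;> simp [sq]
    rw [Finset.sum_congr rfl fun x _ => this x, Finset.sum_add_distrib,
      Finset.sum_ite_eq' Finset.univ (1 : ↥L), if_pos (Finset.mem_univ _), Finset.sum_ite,
      Finset.sum_const, Finset.sum_const_zero, add_zero, nsmul_eq_mul, hN]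
    field_simp
    ring
  constructor
  · have k := norm_eq hF c hFc
    rw [hFF, hF1, Finset.sum_congr rfl (g := fun φ => ((t φ ^ 2 : ℤ) : ℂ)) fun φ hφ => by
      rw [hFφ φ hφ, map_intCast]; push_cast; ring, ← Int.cast_sum, map_div₀, map_add, map_intCast,
      map_intCast, map_intCast, show ((fittingHall L).index : ℂ) = (e : ℂ) by simp [e]] at k
    field_simp at k
    have k' : ((e * h * ∑ φ ∈ memI L, t φ ^ 2 : ℤ) : ℂ) =
        (((ub : ℤ) ^ 2 * N₀ + z ^ 2 - h * (t lam + P₀) ^ 2 : ℤ) : ℂ) := by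
      push_cast at k ⊢
      first | linear_combination -k | linear_combination -(1 : ℂ) / (e : ℂ) * k
    exact_mod_cast k'
  · have k := apply_one_eq hF c hFc
    rw [hF1, show F 1 = (z : ℂ) from if_pos rfl, show ((fittingHall L).index : ℂ) = (e : ℂ) by simp [e],
      mul_div_cancel₀ _ he, Finset.sum_congr rfl (g := fun φ => (e : ℂ) * ((wI L φ * t φ : ℤ) : ℂ))
        fun φ hφ => by
        rw [hFφ φ hφ, (degree_famI (c.mem.1 hφ)).2]; simp [e]; ring,
      ← Finset.mul_sum, ← Int.cast_sum] at k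
    have k' : ((e * ∑ φ ∈ memI L, (wI L φ : ℤ) * t φ : ℤ) : ℂ) = ((z - (t lam + P₀) : ℤ) : ℂ) := by
      push_cast at k ⊢
      linear_combination -k
    exact_mod_cast k'

end Cfsg.Agent.OddChar.TypeP.Centralizer
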