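import Cfsg.Agent.OddChar.TypeP.Centralizer.Rho
import Cfsg.Agent.OddChar.TypeP.Centralizer.Parseval
import Cfsg.Agent.OddChar.TypeP.Centralizer.Eta
import Cfsg.Agent.OddChar.TypeP.Centralizer.Arith
import Cfsg.Agent.OddChar.TypeP.Tools.Budget

/-!
# What is left when `C_U(S_F) ≠ 1`
-/

set_option autoImplicit false
set_option linter.unusedSectionVars false
set_option linter.style.haveILetI false

namespace Cfsg.Agent.OddChar.TypeP.Centralizer

open Cfsg Subgroup
open Cfsg.Agent.OddLocal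
open Cfsg.Agent.Characters
open Cfsg.Agent.OddChar.TypeP.Tools (GHyp centU LCtx memI YI wI)

universe u

variable {G : Type u} [Group G] [Fintype G] {S T L W₁ W₂ U V : Subgroup G}

namespace CData

variable (c : CData S T W₁ W₂ U V L)
include c

theorem card_fittingHall [Fintype L] : Nat.card (fittingHall L) = Nat.card (sigmaCore L) := by
  rw [TypeOne.Gap.fittingHall_eq c.hG c.ov.hL c.ov.kappa]
  exact Nat.card_congr (subgroupOfEquivOfLe (Sigma.sigmaCore_le L)).toEquiv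

theorem index_fittingHall [Fintype L] : (fittingHall L).index = Nat.card ↥(L ⊓ T) := by
  refine Nat.eq_of_mul_eq_mul_left (Nat.card_pos (α := fittingHall L)) ?_
  rw [Subgroup.card_mul_index, c.card_L, c.card_fittingHall, mul_comm]

end CData

/-- The conclusion of the norm argument. -/
structure LeftData (S T W₁ W₂ U L : Subgroup G) [Fintype L]
    (η : (↥(W₁ ⊔ W₂) →* ℂˣ) → G → ℂ) (τ₁ : (↥L → ℂ) → G → ℂ) (X : G → ℂ)
    (j : ↥(W₁ ⊔ W₂) →* ℂˣ) (t : (↥L → ℂ) → ℤ) : Prop where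
  core : sigmaCore L = U
  card_U : Nat.card U = Nat.card ↥(centU S U) ^ 2
  ub : (centU S U).relIndex U = Nat.card ↥(centU S U)
  e_eq : Nat.card ↥(L ⊓ T) = Nat.card W₁ * Nat.card W₂
  sum_sq : (Nat.card W₁ : ℤ) * ∑ φ ∈ memI L, t φ ^ 2 = (Nat.card ↥(centU S U) : ℤ) - 1
  sum : (Nat.card W₁ : ℤ) * ∑ φ ∈ memI L, (wI L φ : ℤ) * t φ = (Nat.card ↥(centU S U) : ℤ) - 1 ∨
    (Nat.card W₁ : ℤ) * ∑ φ ∈ memI L, (wI L φ : ℤ) * t φ = -((Nat.card ↥(centU S U) : ℤ) - 1)
  eq : X = (η 1 - η j) + ∑ φ ∈ memI L, (t φ : ℂ) • τ₁ φ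

set_option maxHeartbeats 1200000 in
open Classical in
/-- The norm argument. -/
theorem CData.leftover [Fintype S] [Fintype L] (c : CData S T W₁ W₂ U V L) (g : GHyp S W₁ U W₂)
    {τ₁ : (↥L → ℂ) → G → ℂ} {lam : ↥L → ℂ} (cL : LCtx L τ₁ lam)
    {η : (↥(W₁ ⊔ W₂) →* ℂˣ) → G → ℂ} (hη : IsCyclicTIFamily W₁ W₂ η)
    {j : ↥(W₁ ⊔ W₂) →* ℂˣ} (hj : j ∈ rightSet W₁ W₂) (hj1 : j ≠ 1)
    {t : (↥L → ℂ) → ℤ} (ht : ∀ φ ∈ memI L, classInner (τ₁ φ) (g.tauGam j) = (t φ : ℂ))
    {P₀ : ℤ} (hP₀ : classInner (YI L lam) (g.tauGam j) = (P₀ : ℂ)) :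
    LeftData S T W₁ W₂ U L η τ₁ (g.tauGam j) j t ∧
      (t lam + P₀ = Nat.card W₂ ∨ (t lam + P₀ = (Nat.card W₂ : ℤ) - 1 ∧
        Nat.card ↥(centU S U) + 1 = 2 * Nat.card W₂)) := by
  haveI := g.hP.selfNormalizing.2.2.2.2.1
  haveI : Fintype (↥(W₁ ⊔ W₂) →* ℂˣ) := Fintype.ofFinite _
  haveI := Fintype.ofFinite (IrrCharacter L)
  set X := g.tauGam j with hXdef
  have hXc : IsClassFunction G X := isGen_isClassFunction (g.isGen_tauGam hj)
  set q := Nat.card W₁ with hq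
  set m := Nat.card ↥(centU S U) with hm
  set ub := (centU S U).relIndex U with hub
  -- the Bessel inequality
  obtain ⟨a, ha⟩ := Tools.exists_coef hη (g.isGen_tauGam hj)
  obtain ⟨h2, hpat⟩ := eta_part g hη hj hj1 ha
  have ht' : ∀ φ ∈ memI L, classInner X (τ₁ φ) = (t φ : ℂ) := fun φ hφ => by
    rw [classInner_conj_symm (τ₁ φ) X, ht φ hφ, map_intCast]
  obtain ⟨hle, heqX⟩ := Tools.norm_bound hη (memI L) τ₁ (fun _ => 1) (fun _ _ => one_pos)
    (fun k hk l hl => by rw [Nat.cast_one]; exact cL.inner_images (cL.mem.1 hk) (cL.mem.1 hl))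
    (fun k hk ω => Coherence.inner_comm_zero (cL.inner_eta g.hS g.hP hη (cL.mem.1 hk) ω)) ht' ha
  have hnorm : (classInner X X).re = 2 + ((ub : ℝ) - 1) / (q : ℝ) := by
    rw [hXdef, g.inner_tauGam_self hj hj1]
    simp [hub, hq]
  have hq0 : (0 : ℝ) < q := by exact_mod_cast g.hq.pos
  have hTsum : ∑ φ ∈ memI L, (t φ : ℝ) ^ 2 / ((1 : ℕ) : ℝ) = ((∑ φ ∈ memI L, t φ ^ 2 : ℤ) : ℝ) := by
    push_cast; simp
  rw [hTsum, hnorm] at hle heqX
  set A := ∑ ω, a ω ^ 2 with hA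
  set T2 := ∑ φ ∈ memI L, t φ ^ 2 with hT2
  have hbess : (q : ℤ) * (A - 2) + q * T2 ≤ (ub : ℤ) - 1 := by
    have h : ((q * (A - 2) + q * T2 : ℤ) : ℝ) ≤ (((ub : ℤ) - 1 : ℤ) : ℝ) := by
      push_cast
      have := mul_le_mul_of_nonneg_left hle hq0.le
      rw [mul_add, mul_add, mul_div_cancel₀ _ hq0.ne'] at this
      linarith
    exact_mod_cast h
  -- Parseval on `L`
  obtain ⟨hP1, hP2⟩ := coef_eqs cL hXc (c.K₀_subset) (fun a ha y => K₀_inv ha y)
    (fun a ha => c.rho_tauGam g hj hj1 ha) ht hP₀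
  rw [c.index_fittingHall, c.card_fittingHall] at hP1 hP2
  set e := Nat.card ↥(L ⊓ T) with he
  set h := Nat.card (sigmaCore L) with hh
  set N₀ := Nat.card {x : ↥L // (x : G) ∈ K₀ S U L} with hN₀
  obtain ⟨a', ha'⟩ : m ∣ h := card_dvd_of_le c.cu_le_core
  have hu : m * ub = Nat.card U := card_mul_relIndex inf_le_left
  obtain ⟨gi, hgi⟩ : ∃ gi, gi = U.relIndex (sigmaCore L) := ⟨_, rfl⟩
  have hgu : Nat.card U * gi = h := hgi ▸ card_mul_relIndex c.ov.U_le
  have hm0 : 0 < m := Nat.card_pos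
  have ha'' : a' = gi * ub := Nat.eq_of_mul_eq_mul_left hm0 (by rw [← ha', ← hgu, ← hu]; ring)
  obtain ⟨d, hd, hed⟩ : ∃ d : ℕ, (d = 1 ∨ d = Nat.card W₂) ∧ e = q * d := by
    rcases c.card_compl_cases with e' | e'
    · exact ⟨1, Or.inl rfl, by rw [he, e', mul_one]⟩
    · exact ⟨_, Or.inr rfl, e'⟩
  have hUW : Nat.card ↥(U ⊔ W₁) = Nat.card U * q := Coprime.card_sup_of_disjoint c.hP.U_normal
    (disjoint_iff.mpr (le_bot_iff.mp ((inf_le_inf_right _ c.hP.U_compl.2.1).trans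
      c.hP.W₁_compl.2.2.1.le)))
  have hN : N₀ * ub = d * a' * (m - 1) := by
    have h1 := c.card_K₀
    rw [hUW, c.card_L, ← he, ← hh, hed, ha', ← hu, ← hm] at h1
    refine Nat.eq_of_mul_eq_mul_left (Nat.mul_pos hm0 g.hq.pos) ?_
    calc m * q * (N₀ * ub) = N₀ * (m * ub * q) := by ring
      _ = _ := h1
      _ = _ := by ring
  obtain ⟨m', hm'⟩ : ∃ m', m = m' + 1 := ⟨m - 1, by omega⟩
  have hN' : (N₀ : ℤ) * ub = d * a' * ((m : ℤ) - 1) := by
    rw [hm', Nat.add_sub_cancel] at hN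
    rw [hm']
    push_cast
    rw [add_sub_cancel_right]
    exact_mod_cast hN
  have ha0 : (0 : ℤ) < a' := by
    rcases Nat.eq_zero_or_pos a' with e0 | e0
    · exact absurd (ha'.trans (by rw [e0, mul_zero])) Nat.card_pos.ne'
    · exact_mod_cast e0
  set K : ℤ := t lam + P₀ - d with hK
  have hz : (h : ℤ) * (t lam + P₀) - ub * N₀ = h * K + d * a' := by
    rw [show (ub : ℤ) * N₀ = N₀ * ub by ring, hN', ha']
    push_cast
    simp only [hK]
    ring
  rw [hz] at hP1 hP2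
  have hineq : (a' : ℤ) * ((ub : ℤ) * d * (m - 1) + a' * m ^ 2 * K ^ 2 + 2 * m * K * d * a' +
      d ^ 2 * a' - m * (K + d) ^ 2) = e * h * T2 := by
    rw [hP1, show (ub : ℤ) ^ 2 * N₀ = ub * (N₀ * ub) by ring, hN', ha',
      show t lam + P₀ = K + d by simp [hK]]
    push_cast
    ring
  have hqT : (q : ℤ) * T2 ≤ (ub : ℤ) - 1 := by nlinarith [mul_nonneg (show (0 : ℤ) ≤ q by positivity) (sub_nonneg.2 h2)]
  have hI : (m : ℤ) * (a' * m - 1) * K ^ 2 + 2 * d * K * m * ((a' : ℤ) - 1) + (d : ℤ) ^ 2 * (a' - m) -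
      d * ub + d * m ≤ 0 := by
    have h1 : (e : ℤ) * h * T2 ≤ a' * ((d : ℤ) * m * ((ub : ℤ) - 1)) := by
      rw [hed, ha']
      push_cast
      calc (q : ℤ) * d * (m * a') * T2 = (a' * (d * m)) * (q * T2) := by ring
        _ ≤ (a' * (d * m)) * ((ub : ℤ) - 1) := mul_le_mul_of_nonneg_left hqT (by positivity)
        _ = _ := by ring
    rw [← hineq] at h1
    have := le_of_mul_le_mul_left h1 ha0
    linarith
  have hp3 : 3 ≤ Nat.card W₂ := by
    have := g.hp.two_le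
    obtain ⟨k, hk⟩ := odd_subgroup g.hG W₂
    omega
  have hgi0 : 0 < gi := Nat.pos_of_ne_zero fun e0 => by
    rw [e0, mul_zero] at hgu; exact Nat.card_pos.ne hgu
  have hub0 : 0 < ub := Nat.pos_of_ne_zero fun e0 => by
    rw [e0, mul_zero] at hu; exact Nat.card_pos.ne hu
  have hcoreU : gi = 1 → sigmaCore L = U := fun e1 => by
    refine (eq_of_le_of_card_ge c.ov.U_le ?_).symm
    rw [← hh, ← hgu, e1, mul_one]
  have hdp : gi = 1 → d = Nat.card W₂ := fun e1 => hd.resolve_left fun h1 => by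
    exact c.ne_of_core_eq (hcoreU e1) (by rw [← he, hed, h1, mul_one])
  have hd2 : d = Nat.card W₂ → 2 * Nat.card W₂ ≤ m + 1 ∧ (sigmaCore L ≠ U → 2 * Nat.card W₂ ≤ m) :=
    fun hd' => c.two_p_le (by rw [← he, hed, hd'])
  obtain ⟨hg1, ham, hKc⟩ := Arith.main_quad (m := m) (g := gi) (ub := ub) (d := d) (a := a') (K := K)
    (by exact_mod_cast c.three_le) (by exact_mod_cast hub0) (by exact_mod_cast hgi0)
    (by rcases hd with h | h <;> rw [h] <;> omega) (by exact_mod_cast ha'')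
    (by
      have := c.sq_le
      rw [← hm, ← hh, ha'] at this
      exact_mod_cast Nat.le_of_mul_le_mul_left this hm0)
    (fun h1 => by rw [hdp (by exact_mod_cast h1)]; exact_mod_cast hp3)
    (by
      rcases hd with h | h
      · rw [h]; have := c.three_le; push_cast; omega
      · rw [h]; exact_mod_cast (hd2 h).1)
    (fun h1 => by
      rcases hd with h | h
      · rw [h]; have := c.three_le; push_cast; omega
      · rw [h]
        refine (Nat.cast_le (α := ℤ)).2 ((hd2 h).2 fun ec => ?_) |> (le_of_eq (by push_cast; ring)).trans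
        have : gi = 1 := by rw [hgi, ec, relIndex_self]
        omega)
    hI
  have hgi1 : gi = 1 := by exact_mod_cast hg1
  have hdeq := hdp hgi1
  have ham' : a' = m := by exact_mod_cast ham
  have hubm : ub = m := by rw [hgi1, one_mul] at ha''; omega
  have hmd : (K = -1 → (m : ℤ) = 2 * d - 1) := fun hk => by
    rcases hKc with h0 | ⟨-, h0⟩ <;> omega
  have hT2 : (q : ℤ) * T2 = (m : ℤ) - 1 := by
    rw [hed, ha', ham', hubm] at hineq
    push_cast at hineq
    have hm0' : (m : ℤ) ≠ 0 := by exact_mod_cast hm0.ne'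
    have hd0' : (d : ℤ) ≠ 0 := by rw [hdeq]; exact_mod_cast g.hp.ne_zero
    refine mul_left_cancel₀ (mul_ne_zero (mul_ne_zero hm0' hm0') hd0') ?_
    rcases hKc with hK0 | ⟨hK0, hK1⟩
    · rw [hK0] at hineq; linear_combination -hineq
    · rw [hK0, show (m : ℤ) = 2 * d - 1 from hmd hK0] at hineq
      rw [show (m : ℤ) = 2 * d - 1 from hmd hK0]
      linear_combination -hineq
  have hA2 : A ≤ 2 := by
    rw [hubm] at hbess
    have : (q : ℤ) * (A - 2) ≤ 0 := by linarith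
    have hqi : (0 : ℤ) < q := by exact_mod_cast g.hq.pos
    nlinarith
  have hAeq : A = 2 := le_antisymm hA2 h2
  refine ⟨⟨hcoreU hgi1, ?_, hubm, by rw [← he, hed, hdeq], hT2, ?_, ?_⟩, ?_⟩
  · rw [← hu, hubm, sq]
  · rw [hed, ha', ham', show t lam + P₀ = K + d by simp [hK]] at hP2
    push_cast at hP2
    have hd0' : (d : ℤ) ≠ 0 := by rw [hdeq]; exact_mod_cast g.hp.ne_zero
    rcases hKc with hK0 | ⟨hK0, -⟩
    · left
      refine mul_left_cancel₀ hd0' ?_
      rw [hK0] at hP2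
      linear_combination hP2
    · right
      refine mul_left_cancel₀ hd0' ?_
      rw [hK0, show (m : ℤ) = 2 * d - 1 from hmd hK0] at hP2
      rw [show (m : ℤ) = 2 * d - 1 from hmd hK0]
      linear_combination hP2
  · rw [heqX (by
      rw [hAeq]
      have h := congrArg (fun z : ℤ => (z : ℝ)) hT2
      push_cast at h
      rw [hubm]
      refine le_of_eq ?_
      rw [← h, mul_div_cancel_left₀ _ hq0.ne']
      push_cast
      ring)]
    simp only [Nat.cast_one, div_one]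
    congr 1
    rw [Finset.sum_congr rfl fun ω _ => by rw [hpat hA2 ω]]
    simp only [Int.cast_sub, Int.cast_ite, Int.cast_one, Int.cast_zero, sub_smul, ite_smul, zero_smul,
      one_smul, Finset.sum_sub_distrib, Finset.sum_ite_eq', Finset.mem_univ, if_true]
  · rcases hKc with hK0 | ⟨hK0, hK1⟩
    · left; rw [← hdeq]; linarith [hK, hK0]
    · right
      refine ⟨by rw [← hdeq]; linarith [hK, hK0], ?_⟩
      have := hmd hK0
      rw [hdeq] at this
      omega

end Cfsg.Agent.OddChar.TypeP.Centralizer
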