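import Cfsg.Agent.OddChar.TypeP.Centralizer.Over
import Cfsg.Agent.OddChar.TypeP.Tools.GammaData
import Cfsg.Agent.OddChar.TypeOne.Gap.Local.Contra
import Cfsg.Agent.OddChar.TypeOne.Gap.AllFrobenius
import Cfsg.Agent.OddLocal.PTypeU
import Cfsg.Agent.S1390
import Cfsg.Agent.S1440

/-!
# Local facts when `C = C_U(S_F)` is not trivial
-/

set_option autoImplicit false
set_option linter.unusedSectionVars false

namespace Cfsg.Agent.OddChar.TypeP.Centralizer

open Cfsg Subgroup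
open Cfsg.Agent.OddLocal
open Cfsg.Agent.OddChar.TypeP.Tools (centU)
open Cfsg.Agent.Transfer.Fusion (map_conj_eq_self_iff card_map_conj map_conj_inv_cancel)

universe u

variable {G : Type u} [Group G] [Finite G] {S T L W₁ W₂ U V : Subgroup G}

/-- `S` of type II with `C ≠ 1`, and `L` over `N(U)`. -/
structure CData (S T W₁ W₂ U V L : Subgroup G) : Prop where
  hG : IsMinSimpleOddOrder G
  pair : PairData S T W₁ W₂ U V
  hII : IsOfTypeII S
  hC1 : centU S U ≠ ⊥
  hf : Partner T W₂ V W₁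
  ov : OverData S T W₁ U L

namespace CData

variable (c : CData S T W₁ W₂ U V L)
include c

theorem core_S : fittingHallOf S = sigmaCore S := (c.pair.decomp c.hG c.hII).2.1

theorem decomp : IsSigmaDecomposition S W₁ U := (c.pair.decomp c.hG c.hII).1

theorem hP : IsTypePWith S W₁ U W₂ := c.pair.hSP

theorem comm_U : IsMulCommutative U :=
  (KappaDecomp.data_of c.hG c.pair.hS c.decomp c.hP.W₁_ne).hUc

theorem commute_U {a b : G} (ha : a ∈ U) (hb : b ∈ U) : Commute a b :=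
  congrArg Subtype.val (c.comm_U.is_comm.comm ⟨a, ha⟩ ⟨b, hb⟩)

theorem commute_H {x a : G} (hx : x ∈ centU S U) (ha : a ∈ fittingHallOf S) : Commute a x :=
  mem_centralizer_iff.mp (mem_inf.mp hx).2 a ha

/-- `C` centralises `S'`. -/
theorem commute_derived {x a : G} (hx : x ∈ centU S U) (ha : a ∈ ⁅S, S⁆) : Commute a x := by
  obtain ⟨y, hy, v, hv, rfl⟩ := c.hP.U_compl.2.2.2 a ha
  exact (c.commute_H hx hy).mul_left (c.commute_U hv (mem_inf.mp hx).1)

theorem cu_le_S : centU S U ≤ S := inf_le_left.trans (U_le_M c.hP)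

theorem le_normalizer_cu : S ≤ normalizer (centU S U : Set G) := by
  refine M_le_of_parts c.hP ?_ ?_ ?_
  · intro y hy
    refine mem_normalizer_fintype fun x hx => ?_
    rw [(c.commute_H hx hy).eq, mul_inv_cancel_right]
    exact hx
  · intro v hv
    refine mem_normalizer_fintype fun x hx => ?_
    rw [(c.commute_U hv (mem_inf.mp hx).1).eq, mul_inv_cancel_right]
    exact hx
  · intro w hw
    refine mem_normalizer_fintype fun x hx => mem_inf.mpr
      ⟨(mem_normalizer_iff.mp (c.hP.U_normal hw) x).mp (mem_inf.mp hx).1, ?_⟩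
    refine mem_centralizer_iff.mpr fun a ha => ?_
    have hb : w⁻¹ * a * w ∈ fittingHallOf S :=
      (mem_normalizer_iff''.mp (M_le_normalizer_H S (W₁_le_M c.hP hw)) a).mp ha
    calc a * (w * x * w⁻¹) = w * ((w⁻¹ * a * w) * x) * w⁻¹ := by group
      _ = w * (x * (w⁻¹ * a * w)) * w⁻¹ := by rw [(c.commute_H hx hb).eq]
      _ = w * x * w⁻¹ * a := by group

theorem H_le_centralizer {x : G} (hx : x ∈ centU S U) :
    fittingHallOf S ≤ centralizer ({x} : Set G) := fun _ ha =>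
  mem_centralizer_singleton_iff.mpr (c.commute_H hx ha).eq

/-- `C_G(x) ≤ S` only, for `x ∈ C#`. -/
theorem centralizer_le {x : G} (hx : x ∈ centU S U) (hx1 : x ≠ 1) :
    centralizer ({x} : Set G) ≤ S ∧
      ∀ M : Subgroup G, IsCoatom M → centralizer ({x} : Set G) ≤ M → M = S := by
  refine (S1390.result c.hG S c.pair.hS U (Or.inr ⟨c.hII, c.hP.U_compl⟩)).2.1 {x}
    (Set.singleton_subset_iff.mpr ⟨(mem_inf.mp hx).1, hx1⟩) (Set.singleton_nonempty x) fun e => ?_
  rw [inf_eq_left.mpr (c.H_le_centralizer hx)] at e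
  exact c.hP.H_not_cyclic (e ▸ isCyclic_of_subsingleton)

/-- Elements moving an element of `C#` into `C` lie in `S`. -/
theorem mem_of_conj {x y : G} (hx : x ∈ centU S U) (hx1 : x ≠ 1) (hy : y * x * y⁻¹ ∈ centU S U) : y ∈ S := by
  have h1 : centralizer ({y * x * y⁻¹} : Set G) ≤ S.map (MulAut.conj y).toMonoidHom := fun a ha => by
    refine ⟨y⁻¹ * a * y, (c.centralizer_le hx hx1).1 (mem_centralizer_singleton_iff.mpr ?_), by
      simp [mul_assoc]⟩
    have e := mem_centralizer_singleton_iff.mp ha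
    calc y⁻¹ * a * y * x = y⁻¹ * (a * (y * x * y⁻¹)) * y := by group
      _ = y⁻¹ * (y * x * y⁻¹ * a) * y := by rw [e]
      _ = x * (y⁻¹ * a * y) := by group
  refine (SigmaParts.mem_iff_conj_eq c.hG c.pair.hS).mpr
    ((c.centralizer_le hy fun e => hx1 (conj_eq_one_iff.mp e)).2 _
      (Unique.isCoatom_map_conj c.pair.hS y) h1)

theorem cu_le_core : centU S U ≤ sigmaCore L := inf_le_left.trans c.ov.U_le

theorem L_ne_S : L ≠ S := fun e =>
  Set.not_nonempty_empty (c.ov.kappa ▸ e ▸ Noncoherent.kappa_nonempty_of_typeP c.hG c.pair.hS c.hP)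

theorem exists_mem_not_S : ∃ y ∈ L, y ∉ S := by
  by_contra h
  push Not at h
  exact c.L_ne_S ((c.ov.hL.le_iff.mp h).resolve_left c.pair.hS.1).symm

theorem H_inf_UW : fittingHallOf S ⊓ (U ⊔ W₁) = ⊥ := by
  refine inf_eq_bot_of_coprime ?_
  rw [KappaDecomp.card_compl c.decomp]
  exact coprime_H c.hP

theorem H_not_le_L : ¬ fittingHallOf S ≤ L := fun hle => by
  refine c.hP.H_not_cyclic ?_
  have : fittingHallOf S = ⊥ := le_bot_iff.mp
    ((le_inf le_rfl ((le_inf (H_le_M S) hle).trans c.ov.inter.le)).trans c.H_inf_UW.le)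
  exact this ▸ isCyclic_of_subsingleton

theorem not_le_L {x : G} (hx : x ∈ centU S U) : ¬ centralizer ({x} : Set G) ≤ L := fun h =>
  c.H_not_le_L ((c.H_le_centralizer hx).trans h)

/-- `R(x) = S_F` for `x ∈ C#`. -/
theorem supportR_eq {x : G} (hx : x ∈ centU S U) (hx1 : x ≠ 1) : supportR L x = fittingHallOf S := by
  have hcond : ¬ centralizer ({x} : Set G) ≤ L ∧
      ∃! M : Subgroup G, IsCoatom M ∧ centralizer ({x} : Set G) ≤ M :=
    ⟨c.not_le_L hx, S, ⟨c.pair.hS, (c.centralizer_le hx hx1).1⟩,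
      fun M hM => (c.centralizer_le hx hx1).2 M hM.1 hM.2⟩
  rw [supportR, dif_pos hcond]
  rw [(c.centralizer_le hx hx1).2 _ (Classical.choose_spec hcond.2.exists).1
    (Classical.choose_spec hcond.2.exists).2]
  exact inf_eq_left.mpr (c.H_le_centralizer hx)

/-- Elements of `L_σ#` conjugate in `G` to an element of `C` are conjugate to it in `L`. -/
theorem fusion {a g : G} (ha : a ∈ sigmaCore L) (ha1 : a ≠ 1) (hg : g * a * g⁻¹ ∈ centU S U) :
    ∃ y ∈ L, y * a * y⁻¹ = g * a * g⁻¹ := by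
  have hD := (DadeSets.main c.hG c.ov.hL (typeA1 L) (Or.inl rfl)).2
  refine hD.fusion a ?_ g ?_ <;> rw [typeA1, Types.typeCore_eq c.hG c.ov.hL]
  · exact ⟨ha, ha1⟩
  · exact ⟨c.cu_le_core hg, fun e => ha1 (conj_eq_one_iff.mp e)⟩

theorem inf_cu_map {y : G} (hy : y ∉ S) :
    centU S U ⊓ (centU S U).map (MulAut.conj y).toMonoidHom = ⊥ := by
  rw [eq_bot_iff]
  rintro a ⟨ha, x, hx, rfl⟩
  by_contra h1
  refine hy (c.mem_of_conj (x := x) hx (fun e => h1 ?_) (by simpa using ha))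
  simp [e]

/-- `|C|² ≤ |L_σ|`. -/
theorem sq_le : Nat.card (centU S U) * Nat.card (centU S U) ≤ Nat.card (sigmaCore L) := by
  obtain ⟨y, hyL, hyS⟩ := c.exists_mem_not_S
  set C := centU S U with hCdef
  have hle : C.map (MulAut.conj y).toMonoidHom ≤ sigmaCore L := by
    rintro _ ⟨x, hx, rfl⟩
    exact (mem_normalizer_iff.mp (Sigma.le_normalizer_sigmaCore L hyL) x).mp (c.cu_le_core hx)
  calc Nat.card C * Nat.card C
      = Nat.card (C × (C.map (MulAut.conj y).toMonoidHom : Subgroup G)) := by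
        rw [Nat.card_prod, card_map_conj]
    _ ≤ Nat.card (sigmaCore L) := by
        refine Nat.card_le_card_of_injective
          (fun z => ⟨(z.1 : G) * z.2, mul_mem (c.cu_le_core z.1.2) (hle z.2.2)⟩) fun z w e => ?_
        exact Subgroup.mul_injective_of_disjoint (disjoint_iff.mpr (c.inf_cu_map hyS))
          (congrArg Subtype.val e)

/-- `q ∣ |C| - 1`. -/
theorem card_modEq [Fintype G] : Nat.card (centU S U) ≡ 1 [MOD Nat.card W₁] := by
  have := Fact.mk c.hf.hq
  obtain ⟨w, hw⟩ := exists_prime_orderOf_dvd_card' (G := W₁) (Nat.card W₁) dvd_rfl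
  rw [← orderOf_coe] at hw
  refine TypeOne.Gap.Local.card_modEq_one hw (c.le_normalizer_cu (W₁_le_M c.hP w.2))
    ((eq_bot_iff_forall _).mpr fun x hx => ?_)
  obtain ⟨hxC, hxw⟩ := mem_inf.mp hx
  exact W₁_fpf c.hP (w : G) w.2 (fun e => by
    rw [e, orderOf_one] at hw; exact c.hf.hq.ne_one hw.symm) x (mem_inf.mp hxC).1
    (mem_centralizer_singleton_iff.mp hxw).symm

theorem card_L : Nat.card L = Nat.card ↥(L ⊓ T) * Nat.card (sigmaCore L) :=
  (Compl.card_mul c.ov.compl).symm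

/-- `|L ∩ T| = q d` with `d ∈ {1, p}`. -/
theorem card_compl_cases : Nat.card ↥(L ⊓ T) = Nat.card W₁ ∨
    Nat.card ↥(L ⊓ T) = Nat.card W₁ * Nat.card W₂ := by
  rcases c.ov.compl_cases c.hG c.pair c.hf with e | ⟨y, -, -, e⟩
  · exact Or.inl (by rw [e])
  · exact Or.inr e

/-- If `L_σ = U` then `L ∩ T` is bigger than `W₁`. -/
theorem ne_of_core_eq (h : sigmaCore L = U) : Nat.card ↥(L ⊓ T) ≠ Nat.card W₁ := fun e => by
  have hW : L ⊓ T = W₁ :=
    (eq_of_le_of_card_ge (c.ov.W₁_le_compl c.pair) e.le).symm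
  refine c.L_ne_S ((c.ov.hL.le_iff.mp ?_).resolve_left c.pair.hS.1).symm
  rw [← c.ov.sup_compl, hW, h]
  exact sup_le (U_le_M c.hP) (W₁_le_M c.hP)

theorem core_comm_iff : IsMulCommutative (sigmaCore L) → sigmaCore L = U := fun hc => by
  obtain ⟨x, hx, hx1⟩ := (bot_or_exists_ne_one _).resolve_left c.hC1
  refine le_antisymm (fun a ha => ?_) c.ov.U_le
  have haS : a ∈ S := (c.centralizer_le hx hx1).1 (mem_centralizer_singleton_iff.mpr
    (congrArg Subtype.val (hc.is_comm.comm ⟨a, ha⟩ ⟨x, c.cu_le_core hx⟩)))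
  obtain ⟨v, hv, w, hw, rfl⟩ := KappaDecomp.exists_mul_sup c.hP.U_normal
    (c.ov.inter.le (mem_inf.mpr ⟨haS, Sigma.sigmaCore_le L ha⟩))
  have hw' : w ∈ sigmaCore L ⊓ (L ⊓ T) := mem_inf.mpr ⟨by
    have := mul_mem (inv_mem (c.ov.U_le hv)) ha
    rwa [inv_mul_cancel_left] at this, c.ov.W₁_le_compl c.pair hw⟩
  rw [inf_comm, c.ov.compl.2.2.1, mem_bot] at hw'
  rwa [hw', mul_one]

theorem odd_cu : Odd (Nat.card (centU S U)) :=
  c.hG.1.of_dvd_nat (card_subgroup_dvd_card _)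

theorem three_le : 3 ≤ Nat.card (centU S U) := by
  have h1 := (one_lt_card_iff_ne_bot _).mpr c.hC1
  obtain ⟨k, hk⟩ := c.odd_cu
  omega

/-- With `p ∣ |L ∩ T|`: `2p ≤ |C|` unless `L_σ = U`, where `2p ≤ |C| + 1`. -/
theorem two_p_le [Fintype G] (hd : Nat.card ↥(L ⊓ T) = Nat.card W₁ * Nat.card W₂) :
    2 * Nat.card W₂ ≤ Nat.card (centU S U) + 1 ∧
      (sigmaCore L ≠ U → 2 * Nat.card W₂ ≤ Nat.card (centU S U)) := by
  set C := centU S U with hCdef
  have := Fact.mk c.hf.hp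
  obtain ⟨y, hy⟩ := exists_prime_orderOf_dvd_card' (G := ↥(L ⊓ T)) (Nat.card W₂)
    (hd ▸ dvd_mul_left _ _)
  rw [← orderOf_coe] at hy
  have hy1 : (y : G) ≠ 1 := fun e => by
    rw [e, orderOf_one] at hy; exact c.hf.hp.ne_one hy.symm
  have hyL : (y : G) ∈ L := (mem_inf.mp y.2).1
  obtain ⟨s, hs, hsd⟩ := Nat.exists_prime_and_dvd
    (fun e : Nat.card C = 1 => c.hC1 (card_eq_one.mp e))
  have hsC : s ≤ Nat.card C := Nat.le_of_dvd Nat.card_pos hsd
  have hs2 : Odd s := c.odd_cu.of_dvd_nat hsd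
  have hp2 : Odd (Nat.card W₂) := c.hG.1.of_dvd_nat (card_subgroup_dvd_card _)
  by_cases hU : sigmaCore L = U
  · refine ⟨?_, fun h => absurd hU h⟩
    obtain ⟨X, hX⟩ := PType.exists_omega c.comm_U s
    have := Fact.mk hs
    have hXs : IsPGroup s X := fun x => ⟨1, Subtype.ext (by simpa using ((hX x).mp x.2).2)⟩
    have hXU : X ≤ U := fun x hx => ((hX x).mp hx).1
    have hyU : (y : G) ∈ normalizer (U : Set G) := hU ▸ Sigma.le_normalizer_sigmaCore L hyL
    have hyX : (y : G) ∈ normalizer (X : Set G) := mem_normalizer_fintype fun x hx => by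
      rw [SetLike.mem_coe, hX] at hx ⊢
      exact ⟨(mem_normalizer_iff.mp hyU x).mp hx.1, by rw [conj_pow, hx.2]; group⟩
    have hmod := TypeOne.Gap.Local.card_modEq_one hy hyX (le_bot_iff.mp
      ((inf_le_inf_right _ (hXU.trans c.ov.U_le)).trans (c.ov.fpf c.hG y.2 hy1).le))
    obtain ⟨k, hk⟩ := hXs.exists_card_eq
    have hk2 : s ^ k ≤ s ^ 2 := by
      obtain ⟨P, hP⟩ := (hXs.comap_of_injective U.subtype U.subtype_injective).exists_le_sylow
      have h2 := ((S1390.result c.hG S c.pair.hS U (Or.inr ⟨c.hII, c.hP.U_compl⟩)).1 s hs P).2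
      refine le_trans (le_of_eq ?_) (h2 ((X.subgroupOf U).subgroupOf (P : Subgroup U)) ?_ ?_)
      · rw [← hk, Nat.card_congr (subgroupOfEquivOfLe (H := X.subgroupOf U) hP).toEquiv,
          Nat.card_congr (subgroupOfEquivOfLe hXU).toEquiv]
      · exact ⟨⟨fun a b => Subtype.ext (Subtype.ext (Subtype.ext
          (c.commute_U (a : (P : Subgroup U)).1.2 (b : (P : Subgroup U)).1.2).eq))⟩⟩
      · intro a ha
        exact Subtype.ext (Subtype.ext (by simpa using ((hX _).mp ha).2))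
    have hk0 : k ≠ 0 := fun e => by
      rw [e, pow_zero] at hk
      obtain ⟨x, hx⟩ := exists_prime_orderOf_dvd_card' (G := C) s hsd
      have hxX : (x : G) ∈ X := (hX _).mpr ⟨(mem_inf.mp x.2).1, by
        rw [← hx, ← orderOf_coe]; exact pow_orderOf_eq_one _⟩
      rw [card_eq_one.mp hk, mem_bot] at hxX
      rw [← orderOf_coe, hxX, orderOf_one] at hx
      exact hs.ne_one hx.symm
    have hk' : k = 1 ∨ k = 2 := by
      have := (Nat.pow_le_pow_iff_right hs.one_lt).mp hk2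
      omega
    rw [hk] at hmod
    obtain ⟨i, hi⟩ := hs2
    obtain ⟨j, hj⟩ := hp2
    have hsub : Nat.card W₂ ∣ s + 1 ∨ Nat.card W₂ ∣ s - 1 := by
      rcases hk' with rfl | rfl
      · rw [pow_one] at hmod
        exact Or.inr ((Nat.modEq_iff_dvd' hs.pos).mp hmod.symm)
      · have h2 := (Nat.modEq_iff_dvd' (Nat.one_le_pow _ _ hs.pos)).mp hmod.symm
        rw [show s ^ 2 - 1 = (s + 1) * (s - 1) by rw [← Nat.sq_sub_sq, one_pow]] at h2
        exact c.hf.hp.dvd_mul.mp h2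
    have hs1 := hs.two_le
    rcases hsub with ⟨t, ht⟩ | ⟨t, ht⟩ <;>
    · rcases Nat.lt_or_ge t 2 with h | h
      · interval_cases t <;> omega
      · have := Nat.mul_le_mul_left (Nat.card W₂) h
        omega
  · suffices h : 2 * Nat.card W₂ ≤ Nat.card C from ⟨by omega, fun _ => h⟩
    obtain ⟨K, U₀, hKU⟩ := Fcore.exists_decomp c.hG c.ov.hL
    have hK : K = ⊥ := card_eq_one.mp (Nat.eq_one_iff_not_exists_prime_dvd.mpr
      fun r hr hd => Set.notMem_empty r (c.ov.kappa ▸ hKU.hall.2.1 r hr hd))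
    obtain ⟨g, hgH, hgL⟩ : ∃ g ∈ fittingHallOf S, g ∉ L := by
      by_contra h
      push Not at h
      exact c.H_not_le_L h
    have hF : fittingOf L = sigmaCore L := TypeOne.Gap.fittingOf_eq_core c.hG c.ov.hL c.ov.kappa
    have hX : fittingOf L ⊓ (fittingOf L).map (MulAut.conj g).toMonoidHom ≠ ⊥ := fun e => by
      obtain ⟨x, hx, hx1⟩ := (bot_or_exists_ne_one _).resolve_left c.hC1
      refine hx1 (mem_bot.mp (e ▸ mem_inf.mpr ⟨hF ▸ c.cu_le_core hx, x, hF ▸ c.cu_le_core hx, ?_⟩))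
      simp [(c.commute_H hx hgH).eq]
    obtain ⟨-, -, h1 | ⟨r, -, -, -, -, -, -, hexp⟩ | ⟨r, -, -, -, -, -, -, -, h3, -⟩⟩ :=
      S1440.result c.hG L c.ov.hL K U₀ hKU g hgL hX
    · rw [← c.ov.core_eq c.hG] at h1
      exact absurd (c.core_comm_iff h1.2.1) hU
    · have hsL : s ∣ Nat.card (fittingHallOf L) := by
        rw [← c.ov.core_eq c.hG]
        exact hsd.trans (card_dvd_of_le c.cu_le_core)
      have hps : Nat.card W₂ ∣ s - 1 := by
        refine dvd_trans ?_ (hexp s hs hsL)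
        rw [← hy]
        refine orderOf_dvd_of_pow_eq_one ?_
        have h := Monoid.pow_exponent_eq_one (QuotientGroup.mk' (fittingHall ↥L) ⟨(y : G), hyL⟩)
        rw [← map_pow, QuotientGroup.mk'_apply, QuotientGroup.eq_one_iff] at h
        have h' := mem_subgroupOf.mp ((TypeOne.Gap.fittingHall_eq c.hG c.ov.hL c.ov.kappa).le h)
        exact mem_bot.mp (c.ov.compl.2.2.1.le (mem_inf.mpr ⟨pow_mem y.2 _, by simpa using h'⟩))
      obtain ⟨i, hi⟩ := hs2
      obtain ⟨j, hj⟩ := hp2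
      obtain ⟨t, ht⟩ := hps
      have := hs.two_le
      rcases Nat.lt_or_ge t 2 with h | h
      · interval_cases t <;> omega
      · have := Nat.mul_le_mul_left (Nat.card W₂) h
        omega
    · exact absurd hK h3

end CData

end Cfsg.Agent.OddChar.TypeP.Centralizer
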