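import Cfsg.Agent.OddChar.TypeP.Centralizer.Basic
import Cfsg.Agent.OddChar.TypeP.Chief

/-!
# `N(W₁) = C(W₁) = T_F W₂` once `C_V(T_F) = 1`
-/

set_option autoImplicit false
set_option linter.unusedSectionVars false

namespace Cfsg.Agent.OddChar.TypeP

open Cfsg Subgroup
open Cfsg.Agent.OddLocal

universe u

variable {G : Type u} [Group G] [Finite G] {S T W₁ W₂ U V : Subgroup G}

/-- Type II, III, IV: `U` is not trivial. -/
theorem U_ne_bot {M W₁ U W₂ : Subgroup G} (hP : IsTypePWith M W₁ U W₂)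
    (h : IsOfTypeII M ∨ IsOfTypeIII M ∨ IsOfTypeIV M) : U ≠ ⊥ := by
  obtain ⟨A, U', B, hP', hU'⟩ :
      ∃ A U' B : Subgroup G, IsTypePWith M A U' B ∧ U' ≠ ⊥ := by
    rcases h with ⟨a, b, c, h1, h2, -⟩ | ⟨a, b, c, h1, h2, -⟩ | ⟨a, b, c, h1, h2, -⟩ <;>
      exact ⟨a, b, c, h1, h2⟩
  intro e
  have h1 := card_derived hP
  rw [card_derived hP', e, card_bot, mul_one] at h1
  exact hU' (card_eq_one.mp ((Nat.mul_eq_left Nat.card_pos.ne').mp h1))

/-- The facts about the partner used to determine `N(W₁)`. -/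
structure Partner (T W₂ V W₁ : Subgroup G) : Prop where
  hq : (Nat.card W₁).Prime
  hp : (Nat.card W₂).Prime
  hV : V ≠ ⊥
  hVc : IsMulCommutative V
  el : IsElementaryAbelian (Nat.card W₁) (fittingHallOf T)
  card : Nat.card (fittingHallOf T) = Nat.card W₁ ^ Nat.card W₂
  cent : V ⊓ centralizer ((fittingHallOf T : Subgroup G) : Set G) = ⊥

theorem Partner.comm (hf : Partner T W₂ V W₁) {a b : G} (ha : a ∈ fittingHallOf T)
    (hb : b ∈ fittingHallOf T) : a * b = b * a :=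
  congrArg Subtype.val (hf.el.1.is_comm.comm ⟨a, ha⟩ ⟨b, hb⟩)

theorem Partner.le_centralizer (h : PairData S T W₁ W₂ U V) (hf : Partner T W₂ V W₁) :
    fittingHallOf T ⊔ W₂ ≤ centralizer (W₁ : Set G) :=
  sup_le (fun _ ha => mem_centralizer_iff.mpr fun _ hb =>
      hf.comm (W₂_le_H h.hTP hb) ha)
    fun b hb => mem_centralizer_iff.mpr fun a ha => h.hSP.selfNormalizing.2.2.2.1 a ha b hb

/-- `V ∩ N(W₁) = 1`. -/
theorem Partner.inf_normalizer (h : PairData S T W₁ W₂ U V) (hG : IsMinSimpleOddOrder G)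
    (hf : Partner T W₂ V W₁) : V ⊓ normalizer (W₁ : Set G) = ⊥ := by
  set N := V ⊓ normalizer (W₁ : Set G) with hN
  have hW₂C : W₂ ≤ centralizer (W₁ : Set G) := le_sup_right.trans (hf.le_centralizer h)
  have hW₂n : ∀ a ∈ W₂, ∀ n ∈ N, a * n * a⁻¹ ∈ N := fun a ha n hn =>
    mem_inf.mpr ⟨(mem_normalizer_iff.mp (h.hTP.U_normal ha) n).mp (mem_inf.mp hn).1,
      mul_mem (mul_mem (centralizer_le_normalizer _ (hW₂C ha)) (mem_inf.mp hn).2)
        (inv_mem (centralizer_le_normalizer _ (hW₂C ha)))⟩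
  -- `N` centralises `W₁`
  have hNC : N ≤ centralizer (W₁ : Set G) := by
    obtain ⟨a, ha, ha1⟩ := (bot_or_exists_ne_one W₂).resolve_left h.hTP.W₁_ne
    have hf' : Function.Surjective fun n : N =>
        (⟨(n : G) * a * (n : G)⁻¹ * a⁻¹, by
          have := mul_mem n.2 (hW₂n a ha _ (inv_mem n.2))
          simpa [mul_assoc] using this⟩ : N) := by
      refine Finite.surjective_of_injective fun n m e => ?_
      have e' : (n : G) * a * (n : G)⁻¹ * a⁻¹ = (m : G) * a * (m : G)⁻¹ * a⁻¹ :=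
        congrArg Subtype.val e
      have hc : a * ((m : G)⁻¹ * n) = (m : G)⁻¹ * n * a := by
        calc a * ((m : G)⁻¹ * n)
            = (m : G)⁻¹ * ((m : G) * a * (m : G)⁻¹ * a⁻¹) * a * n := by group
          _ = (m : G)⁻¹ * ((n : G) * a * (n : G)⁻¹ * a⁻¹) * a * n := by rw [e']
          _ = (m : G)⁻¹ * n * a := by group
      have h1 : (m : G)⁻¹ * n = 1 :=
        W₁_fpf h.hTP a ha ha1 _ (mem_inf.mp (mul_mem (inv_mem m.2) n.2)).1 hc
      exact Subtype.ext (inv_mul_eq_one.mp h1).symm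
    intro k hk
    obtain ⟨n, e⟩ := hf' ⟨k, hk⟩
    have e' : (n : G) * a * (n : G)⁻¹ * a⁻¹ = k := congrArg Subtype.val e
    refine mem_centralizer_iff.mpr fun x hx => ?_
    have hax : Commute a x := (h.hSP.selfNormalizing.2.2.2.1 x hx a ha).symm
    have hy : (n : G)⁻¹ * x * n ∈ W₁ :=
      (mem_normalizer_iff''.mp (mem_inf.mp n.2).2 x).mp hx
    have hay : Commute a ((n : G)⁻¹ * x * n) := (h.hSP.selfNormalizing.2.2.2.1 _ hy a ha).symm
    rw [← e']
    calc x * ((n : G) * a * (n : G)⁻¹ * a⁻¹)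
        = (n : G) * (((n : G)⁻¹ * x * n) * a) * (n : G)⁻¹ * a⁻¹ := by group
      _ = (n : G) * (a * ((n : G)⁻¹ * x * n)) * (n : G)⁻¹ * a⁻¹ := by rw [← hay.eq]
      _ = (n : G) * a * (n : G)⁻¹ * (x * a⁻¹) := by group
      _ = (n : G) * a * (n : G)⁻¹ * (a⁻¹ * x) := by rw [hax.inv_left.eq]
      _ = (n : G) * a * (n : G)⁻¹ * a⁻¹ * x := by group
  -- `C_Q(N)` is normal in `T`
  obtain ⟨H₀, C, r, hc⟩ := chiefStatement_proof hG T W₂ V W₁ h.hT h.hTP hf.hV hf.hp
  set Q := fittingHallOf T with hQ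
  set X := Q ⊓ centralizer (N : Set G) with hX
  have hH₀ : H₀ = ⊥ := by
    have h1 : r ∣ Nat.card W₁ := hc.card_W₂ ▸ relIndex_dvd_card H₀ W₁
    have h2 : r = Nat.card W₁ := (Nat.prime_dvd_prime_iff_eq hc.prime hf.hq).mp h1
    have h3 := hc.card
    rw [hf.card, h2] at h3
    exact card_eq_one.mp ((Nat.mul_eq_right (pow_pos hf.hq.pos _).ne').mp h3.symm)
  have hTX : T ≤ normalizer (X : Set G) := by
    refine M_le_of_parts h.hTP ?_ ?_ ?_
    · intro x hx
      refine mem_normalizer_fintype fun y hy => ?_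
      rw [hf.comm hx (mem_inf.mp hy).1, mul_inv_cancel_right]
      exact hy
    · intro v hv
      refine mem_normalizer_fintype fun y hy => mem_inf.mpr
        ⟨(mem_normalizer_iff.mp (M_le_normalizer_H T (U_le_M h.hTP hv)) y).mp (mem_inf.mp hy).1, ?_⟩
      refine mem_centralizer_iff.mpr fun n hn => ?_
      have e1 : Commute n v :=
        congrArg Subtype.val (hf.hVc.is_comm.comm ⟨n, (mem_inf.mp hn).1⟩ ⟨v, hv⟩)
      exact (e1.mul_right (mem_centralizer_iff.mp (mem_inf.mp hy).2 n hn)).mul_right e1.inv_right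
    · intro a ha
      refine mem_normalizer_fintype fun y hy => mem_inf.mpr
        ⟨(mem_normalizer_iff.mp (M_le_normalizer_H T (W₁_le_M h.hTP ha)) y).mp (mem_inf.mp hy).1, ?_⟩
      refine mem_centralizer_iff.mpr fun n hn => ?_
      have h2 := hW₂n a⁻¹ (inv_mem ha) n hn
      rw [inv_inv] at h2
      have h3 := mem_centralizer_iff.mp (mem_inf.mp hy).2 _ h2
      calc n * (a * y * a⁻¹) = a * ((a⁻¹ * n * a) * y) * a⁻¹ := by group
        _ = a * (y * (a⁻¹ * n * a)) * a⁻¹ := by rw [h3]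
        _ = a * y * a⁻¹ * n := by group
  have hWX : W₁ ≤ X := le_inf (W₂_le_H h.hTP) (le_centralizer_iff.mp hNC)
  have hXQ : X = Q := by
    refine (hc.minimal X hTX (hH₀ ▸ bot_le) inf_le_left).resolve_left fun e => h.hSP.W₁_ne ?_
    exact le_bot_iff.mp (hWX.trans (e.trans hH₀).le)
  rw [eq_bot_iff]
  exact (le_inf (inf_le_left : N ≤ V) (le_centralizer_iff.mp (inf_eq_left.mp hXQ))).trans hf.cent.le

/-- `N_T(W₁) = T_F W₂`. -/
theorem Partner.inter_normalizer (h : PairData S T W₁ W₂ U V) (hG : IsMinSimpleOddOrder G)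
    (hf : Partner T W₂ V W₁) : T ⊓ normalizer (W₁ : Set G) = fittingHallOf T ⊔ W₂ := by
  refine le_antisymm (fun t ht => ?_) (le_inf (sup_le (H_le_M T) (W₁_le_M h.hTP))
    ((hf.le_centralizer h).trans (centralizer_le_normalizer _)))
  obtain ⟨htT, htN⟩ := mem_inf.mp ht
  obtain ⟨d, hd, a, ha, rfl⟩ := h.hTP.W₁_compl.2.2.2 t htT
  obtain ⟨x, hx, v, hv, rfl⟩ := h.hTP.U_compl.2.2.2 d hd
  have hxN : x ∈ normalizer (W₁ : Set G) :=
    centralizer_le_normalizer _ (hf.le_centralizer h (mem_sup_left hx))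
  have haN : a ∈ normalizer (W₁ : Set G) :=
    centralizer_le_normalizer _ (hf.le_centralizer h (mem_sup_right ha))
  have h1 := mul_mem (mul_mem (inv_mem hxN) htN) (inv_mem haN)
  rw [show x⁻¹ * (x * v * a) * a⁻¹ = v by group] at h1
  have hv1 : v = 1 := mem_bot.mp ((hf.inf_normalizer h hG).le (mem_inf.mpr ⟨hv, h1⟩))
  rw [hv1, mul_one]
  exact mul_mem (mem_sup_left hx) (mem_sup_right ha)

/-- `N(W₁) = C(W₁) = T_F W₂`. -/
theorem Partner.normalizer_eq (h : PairData S T W₁ W₂ U V) (hG : IsMinSimpleOddOrder G)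
    (hf : Partner T W₂ V W₁) :
    normalizer (W₁ : Set G) = centralizer (W₁ : Set G) ∧
      centralizer (W₁ : Set G) = fittingHallOf T ⊔ W₂ := by
  have e : normalizer (W₁ : Set G) = fittingHallOf T ⊔ W₂ := by
    rw [← hf.inter_normalizer h hG, inf_eq_right.mpr (h.normalizer_le hG hf.hq)]
  have e' : centralizer (W₁ : Set G) = fittingHallOf T ⊔ W₂ :=
    le_antisymm ((centralizer_le_normalizer _).trans e.le) (hf.le_centralizer h)
  exact ⟨e.trans e'.symm, e'⟩

/-- The partner facts from the statements of the endgame. -/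
theorem Partner.of_statements (hPr : PrimesStatement.{u}) (hFc : FcoreStatement.{u})
    (h3 : TypeThreeStatement.{u}) (h5 : NoTypeVStatement.{u}) (h : PairData S T W₁ W₂ U V)
    (hG : IsMinSimpleOddOrder G)
    (hC : V ⊓ centralizer ((fittingHallOf T : Subgroup G) : Set G) = ⊥) : Partner T W₂ V W₁ := by
  obtain ⟨hq, hp⟩ := hPr hG S T W₁ W₂ U V h
  obtain ⟨hel, hcard⟩ := hFc hG T S W₂ W₁ V U h.symm
  have ht : IsOfTypeII T ∨ IsOfTypeIII T ∨ IsOfTypeIV T := by
    rcases h.typeT with e | e | e | e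
    exacts [Or.inl e, Or.inr (Or.inl e), Or.inr (Or.inr e), (h5 hG T h.hT e).elim]
  refine ⟨hq, hp, U_ne_bot h.hTP ht, ?_, hel, hcard, hC⟩
  rcases ht with e | e
  · exact (KappaDecomp.data_of hG h.hT (h.symm.decomp hG e).1 h.hTP.W₁_ne).hUc
  · have := (h3 hG T W₂ V W₁ h.hT h.hTP e).2.2.1
    exact IsCyclic.isMulCommutative

theorem normalizerW₁_of_centralizer (hPr : PrimesStatement.{u}) (hFc : FcoreStatement.{u})
    (h3 : TypeThreeStatement.{u}) (h5 : NoTypeVStatement.{u}) (hC : CentralizerStatement.{u}) :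
    NormalizerW₁Statement.{u} := by
  intro G _ _ hG S T W₁ W₂ U V h
  exact (Partner.of_statements hPr hFc h3 h5 h hG (hC hG T S W₂ W₁ V U h.symm)).normalizer_eq h hG

end Cfsg.Agent.OddChar.TypeP
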