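import Cfsg.Agent.OddChar.TypeP.Centralizer.Choice
import Cfsg.Agent.OddChar.TypeP.Exceptional.Over

/-!
# The subgroup `L'` over `N(V)` for the partner `T` of type II
-/

set_option autoImplicit false
set_option linter.unusedSectionVars false
set_option linter.style.haveILetI false

namespace Cfsg.Agent.OddChar.TypeP.Centralizer

open Cfsg Subgroup
open Cfsg.Agent.OddLocal
open Cfsg.Agent.OddChar.TypeP.Tools (GHyp centU coreC baseC)

universe u

variable {G : Type u} [Group G] [Finite G] {S T L L' W₁ W₂ U V : Subgroup G}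

section

variable (g : GHyp S W₁ U W₂)
include g

/-- `W₁` centralises `W₂`. -/
theorem commute_W {a x : G} (ha : a ∈ W₁) (hx : x ∈ W₂) : Commute a x :=
  g.hP.selfNormalizing.2.2.2.1 a ha x hx

/-- `N_U(W₂) ≤ C`. -/
theorem inf_normalizer_le : U ⊓ normalizer (W₂ : Set G) ≤ centU S U := by
  set N := U ⊓ normalizer (W₂ : Set G) with hN
  have hW₁n : ∀ a ∈ W₁, a ∈ normalizer (W₂ : Set G) := fun a ha =>
    centralizer_le_normalizer _ (mem_centralizer_iff.mpr fun x hx => (commute_W g ha hx).symm.eq)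
  have hWn : ∀ a ∈ W₁, ∀ n ∈ N, a * n * a⁻¹ ∈ N := fun a ha n hn =>
    mem_inf.mpr ⟨(mem_normalizer_iff.mp (g.hP.U_normal ha) n).mp (mem_inf.mp hn).1,
      mul_mem (mul_mem (hW₁n a ha) (mem_inf.mp hn).2) (inv_mem (hW₁n a ha))⟩
  -- `N` centralises `W₂`
  have hNC : N ≤ centralizer (W₂ : Set G) := by
    obtain ⟨a, ha, ha1⟩ := (bot_or_exists_ne_one W₁).resolve_left g.hP.W₁_ne
    have hf' : Function.Surjective fun n : N =>
        (⟨(n : G) * a * (n : G)⁻¹ * a⁻¹, by
          have := mul_mem n.2 (hWn a ha _ (inv_mem n.2))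
          simpa [mul_assoc] using this⟩ : N) := by
      refine Finite.surjective_of_injective fun n m e => ?_
      have e' : (n : G) * a * (n : G)⁻¹ * a⁻¹ = (m : G) * a * (m : G)⁻¹ * a⁻¹ :=
        congrArg Subtype.val e
      have hc : a * ((m : G)⁻¹ * n) = (m : G)⁻¹ * n * a := by
        calc a * ((m : G)⁻¹ * n)
            = (m : G)⁻¹ * ((m : G) * a * (m : G)⁻¹ * a⁻¹) * a * n := by group
          _ = (m : G)⁻¹ * ((n : G) * a * (n : G)⁻¹ * a⁻¹) * a * n := by rw [e']
          _ = (m : G)⁻¹ * n * a := by group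
      have h1 : (m : G)⁻¹ * n = 1 :=
        W₁_fpf g.hP a ha ha1 _ (mem_inf.mp (mul_mem (inv_mem m.2) n.2)).1 hc
      exact Subtype.ext (inv_mul_eq_one.mp h1).symm
    intro k hk
    obtain ⟨n, e⟩ := hf' ⟨k, hk⟩
    have e' : (n : G) * a * (n : G)⁻¹ * a⁻¹ = k := congrArg Subtype.val e
    refine mem_centralizer_iff.mpr fun x hx => ?_
    have hax : Commute a x := commute_W g ha hx
    have hy : (n : G)⁻¹ * x * n ∈ W₂ :=
      (mem_normalizer_iff''.mp (mem_inf.mp n.2).2 x).mp hx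
    have hay : Commute a ((n : G)⁻¹ * x * n) := commute_W g ha hy
    rw [← e']
    calc x * ((n : G) * a * (n : G)⁻¹ * a⁻¹)
        = (n : G) * (((n : G)⁻¹ * x * n) * a) * (n : G)⁻¹ * a⁻¹ := by group
      _ = (n : G) * (a * ((n : G)⁻¹ * x * n)) * (n : G)⁻¹ * a⁻¹ := by rw [← hay.eq]
      _ = (n : G) * a * (n : G)⁻¹ * (x * a⁻¹) := by group
      _ = (n : G) * a * (n : G)⁻¹ * (a⁻¹ * x) := by rw [hax.inv_left.eq]
      _ = (n : G) * a * (n : G)⁻¹ * a⁻¹ * x := by group
  -- `C_P(N)` is normal in `S`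
  set X := fittingHallOf S ⊓ centralizer (N : Set G) with hX
  have hSX : S ≤ normalizer (X : Set G) := by
    refine M_le_of_parts g.hP ?_ ?_ ?_
    · intro x hx
      refine mem_normalizer_fintype fun y hy => ?_
      rw [(g.commute_H hx (mem_inf.mp hy).1).eq, mul_inv_cancel_right]
      exact hy
    · intro v hv
      refine mem_normalizer_fintype fun y hy => mem_inf.mpr
        ⟨g.conj_H (U_le_M g.hP hv) (mem_inf.mp hy).1, mem_centralizer_iff.mpr fun n hn => ?_⟩
      have e1 : Commute n v := g.commute_U (mem_inf.mp hn).1 hv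
      exact (e1.mul_right (mem_centralizer_iff.mp (mem_inf.mp hy).2 n hn)).mul_right e1.inv_right
    · intro a ha
      refine mem_normalizer_fintype fun y hy => mem_inf.mpr
        ⟨g.conj_H (W₁_le_M g.hP ha) (mem_inf.mp hy).1, mem_centralizer_iff.mpr fun n hn => ?_⟩
      have h2 := hWn a⁻¹ (inv_mem ha) n hn
      rw [inv_inv] at h2
      have h3 := mem_centralizer_iff.mp (mem_inf.mp hy).2 _ h2
      calc n * (a * y * a⁻¹) = a * ((a⁻¹ * n * a) * y) * a⁻¹ := by group
        _ = a * (y * (a⁻¹ * n * a)) * a⁻¹ := by rw [h3]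
        _ = a * y * a⁻¹ * n := by group
  have hWX : W₂ ≤ X := le_inf (W₂_le_H g.hP) (le_centralizer_iff.mp hNC)
  have hXP : X = fittingHallOf S :=
    (g.minimal inf_le_left hSX).resolve_left fun e =>
      g.hp.ne_one (card_eq_one.mpr (le_bot_iff.mp (hWX.trans e.le)))
  exact le_inf inf_le_left (le_centralizer_iff.mp (inf_eq_left.mp hXP))

/-- `S_F C` is abelian. -/
theorem commute_coreC {a b : G} (ha : a ∈ coreC S U) (hb : b ∈ coreC S U) : Commute a b := by
  obtain ⟨y, hy, c, hc, rfl⟩ := g.exists_coreC ha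
  obtain ⟨z, hz, d, hd, rfl⟩ := g.exists_coreC hb
  exact ((g.commute_H hy hz).mul_right (g.commute_C hd hy)).mul_left
    ((g.commute_C hc hz).symm.mul_right (g.commute_U (mem_inf.mp hc).1 (mem_inf.mp hd).1))

/-- The complement of `L'` meets `S_F` in `W₂`. -/
theorem compl_inf_H (o : OverData T S W₂ V L') :
    L' ⊓ S ⊓ fittingHallOf S = W₂ := by
  set A := L' ⊓ S ⊓ fittingHallOf S with hA
  have hWA : W₂ ≤ A := le_inf (le_inf o.W₁_le ((W₂_le_H g.hP).trans (H_le_M S))) (W₂_le_H g.hP)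
  haveI : IsMulCommutative A :=
    ⟨⟨fun a b => Subtype.ext (g.commute_H (mem_inf.mp a.2).2 (mem_inf.mp b.2).2).eq⟩⟩
  have hcyc : IsCyclic A := Cfsg.Agent.Coprime.fpf_isCyclic_of_abelian (K := sigmaCore L')
    ((inf_le_left.trans inf_le_left).trans (Sigma.le_normalizer_sigmaCore L'))
    (fun a ha ha1 => o.fpf g.hG (mem_inf.mp ha).1 ha1) (Sigma.sigmaCore_ne_bot g.hG o.hL)
  refine (eq_of_le_of_card_ge hWA ?_).symm
  obtain ⟨x, hx⟩ := hcyc.exists_generator
  have h1 : orderOf x = Nat.card A := orderOf_eq_card_of_forall_mem_zpowers hx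
  rw [← h1, ← orderOf_coe]
  exact Nat.le_of_dvd Nat.card_pos
    (orderOf_dvd_of_pow_eq_one (g.hel.2 _ (mem_inf.mp x.2).2))

/-- The complement of `L'` lies in `S_F C W₁`. -/
theorem compl_le_baseC (o : OverData T S W₂ V L') : L' ⊓ S ≤ baseC S W₁ U := by
  intro x hx
  have hxN : x ∈ normalizer (W₂ : Set G) := by
    have h : L' ⊓ S ≤ normalizer ((L' ⊓ S ⊓ fittingHallOf S : Subgroup G) : Set G) :=
      (le_inf le_normalizer (inf_le_right.trans (M_le_normalizer_H S))).trans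
        Subgroup.inf_normalizer_le_normalizer_inf
    rw [← compl_inf_H g o]
    exact h hx
  obtain ⟨d, hd, w, hw, rfl⟩ := g.hP.W₁_compl.2.2.2 x (mem_inf.mp hx).2
  obtain ⟨y, hy, u, hu, rfl⟩ := g.hP.U_compl.2.2.2 d hd
  have hcent : ∀ z : G, (∀ a ∈ W₂, Commute z a) → z ∈ normalizer (W₂ : Set G) := fun z hz =>
    centralizer_le_normalizer _ (mem_centralizer_iff.mpr fun a ha => (hz a ha).symm.eq)
  have hyN := hcent y fun a ha => g.commute_H hy (W₂_le_H g.hP ha)
  have hwN := hcent w fun a ha => commute_W g hw ha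
  have h1 := mul_mem (mul_mem (inv_mem hyN) hxN) (inv_mem hwN)
  rw [show y⁻¹ * (y * u * w) * w⁻¹ = u by group] at h1
  exact mul_mem (mul_mem (mem_sup_left (mem_sup_left hy))
    (mem_sup_left (mem_sup_right (inf_normalizer_le g (mem_inf.mpr ⟨hu, h1⟩))))) (mem_sup_right hw)

/-- `|L' ∩ S| ≤ p |C|` once `q ≤ |C|`. -/
theorem card_compl_le (o : OverData T S W₂ V L')
    (hqm : Nat.card W₁ ≤ Nat.card ↥(centU S U)) :
    Nat.card ↥(L' ⊓ S) ≤ Nat.card W₂ * Nat.card ↥(centU S U) := by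
  set E := L' ⊓ S with hE
  set P := fittingHallOf S with hP
  set A := E ⊓ coreC S U with hA
  have hAE : A ≤ E := inf_le_left
  have hAP : P ⊓ A = W₂ := by
    rw [← compl_inf_H g o]
    exact le_antisymm (fun x hx => mem_inf.mpr ⟨hAE (mem_inf.mp hx).2, (mem_inf.mp hx).1⟩)
      (fun x hx => mem_inf.mpr ⟨(mem_inf.mp hx).2, mem_inf.mpr ⟨(mem_inf.mp hx).1,
        mem_sup_left (mem_inf.mp hx).2⟩⟩)
  have hAcard : Nat.card A ≤ Nat.card W₂ * Nat.card ↥(centU S U) := by
    have h1 : P.relIndex (coreC S U) = Nat.card ↥(centU S U) := by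
      refine Nat.eq_of_mul_eq_mul_left (Nat.card_pos (α := P)) ?_
      rw [card_mul_relIndex (le_sup_left : P ≤ coreC S U), g.card_coreC]
    rw [← card_mul_relIndex (inf_le_right : P ⊓ A ≤ A), inf_relIndex_right, hAP, ← h1]
    exact Nat.mul_le_mul_left _ (relIndex_le_of_le_right inf_le_right index_ne_zero_of_finite)
  by_cases hEA : E ≤ coreC S U
  · exact le_trans (le_of_eq (by rw [hA, inf_eq_left.mpr hEA])) hAcard
  -- `A = W₂`
  have hAW : A = W₂ := by
    by_contra hne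
    obtain ⟨a, ha, haW⟩ : ∃ a ∈ A, a ∉ W₂ := by
      by_contra hall
      push Not at hall
      exact hne (le_antisymm hall (hAP ▸ inf_le_right))
    obtain ⟨y, hy, c, hc, rfl⟩ := g.exists_coreC (mem_inf.mp ha).2
    have hcop : (orderOf c).Coprime (Nat.card P) :=
      ((coprime_H_U g.hP).symm).coprime_dvd_left (orderOf_dvd_natCard U (mem_inf.mp hc).1)
    set z := (y * c) ^ Nat.card P with hz
    have hzc : z = c ^ Nat.card P := by
      rw [hz, (g.commute_C hc hy).mul_pow,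
        orderOf_dvd_iff_pow_eq_one.mp (orderOf_dvd_natCard P hy), one_mul]
    have hz1 : z ≠ 1 := fun e => by
      have h1 : orderOf c = 1 := hcop.eq_one_of_dvd (orderOf_dvd_of_pow_eq_one (hzc ▸ e))
      rw [orderOf_eq_one_iff] at h1
      rw [h1, mul_one] at ha haW
      exact haW (hAP ▸ mem_inf.mpr ⟨hy, ha⟩)
    obtain ⟨r, hr, hrd⟩ := Nat.exists_prime_and_dvd (mt orderOf_eq_one_iff.1 hz1)
    set c₁ := z ^ (orderOf z / r) with hc₁
    have ho₁ : orderOf c₁ = r :=
      orderOf_pow_orderOf_div (orderOf_pos z).ne' hrd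
    have hc₁A : c₁ ∈ A := pow_mem (pow_mem ha _) _
    have hc₁C : c₁ ∈ centU S U := pow_mem (hzc ▸ pow_mem hc _) _
    -- an element of order `q` outside `S_F C`
    obtain ⟨e, he, heA⟩ : ∃ e ∈ E, e ∉ coreC S U := SetLike.not_le_iff_exists.mp hEA
    have hcq : (Nat.card ↥(coreC S U)).Coprime (Nat.card W₁) :=
      (coprime_derived_W₁ g.hP).coprime_dvd_left (card_dvd_of_le g.coreC_le_derived)
    haveI : ((coreC S U).subgroupOf S).Normal :=
      (normal_subgroupOf_iff_le_normalizer g.coreC_le_S).2 g.le_normalizer_coreC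
    have heq' : e ^ Nat.card W₁ ∈ coreC S U := by
      obtain ⟨d, hd, w, hw, hew⟩ := g.exists_base (compl_le_baseC g o he)
      have hwS : w ∈ S := W₁_le_M g.hP hw
      have key : ∀ k : ℕ, e ^ k * (w ^ k)⁻¹ ∈ coreC S U := by
        intro k
        induction k with
        | zero => simp
        | succ k ih =>
          have : e ^ (k + 1) * (w ^ (k + 1))⁻¹ =
              e ^ k * (w ^ k)⁻¹ * (w ^ k * d * (w ^ k)⁻¹) := by
            rw [pow_succ, pow_succ, hew]; group
          rw [this]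
          exact mul_mem ih ((mem_normalizer_iff.mp
            (g.le_normalizer_coreC (pow_mem hwS k)) d).mp hd)
      have h := key (Nat.card W₁)
      rwa [orderOf_dvd_iff_pow_eq_one.mp (orderOf_dvd_natCard W₁ hw), inv_one, mul_one] at h
    have hqe : Nat.card W₁ ∣ orderOf e := by
      by_contra hnd
      refine heA ?_
      have hco : (Nat.card W₁).Coprime (orderOf e) := g.hq.coprime_iff_not_dvd.mpr hnd
      obtain ⟨k, hk⟩ := exists_pow_eq_self_of_coprime hco
      exact hk ▸ pow_mem heq' k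
    set b := e ^ (orderOf e / Nat.card W₁) with hb
    have hob : orderOf b = Nat.card W₁ := orderOf_pow_orderOf_div (orderOf_pos e).ne' hqe
    have hbE : b ∈ E := pow_mem he _
    have hbC : b ∉ coreC S U := fun h => g.hq.ne_one
      (Nat.eq_one_of_dvd_coprimes hcq (hob ▸ orderOf_dvd_natCard _ h) dvd_rfl)
    -- `A` is cyclic and normalised by `b`
    haveI : IsMulCommutative A :=
      ⟨⟨fun a b => Subtype.ext (commute_coreC g (mem_inf.mp a.2).2 (mem_inf.mp b.2).2).eq⟩⟩
    have hcyc : IsCyclic A := Cfsg.Agent.Coprime.fpf_isCyclic_of_abelian (K := sigmaCore L')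
      ((hAE.trans inf_le_left).trans (Sigma.le_normalizer_sigmaCore L'))
      (fun a ha ha1 => o.fpf g.hG (hAE ha) ha1) (Sigma.sigmaCore_ne_bot g.hG o.hL)
    obtain ⟨g₀, hg₀⟩ := hcyc.exists_generator
    have hbn : ∀ a ∈ A, b * a * b⁻¹ ∈ A := fun a ha => mem_inf.mpr
      ⟨mul_mem (mul_mem hbE (hAE ha)) (inv_mem hbE),
        (mem_normalizer_iff.mp (g.le_normalizer_coreC (mem_inf.mp hbE).2) a).mp (mem_inf.mp ha).2⟩
    obtain ⟨k, hk⟩ := mem_zpowers_iff.1 (hg₀ ⟨_, hbn _ g₀.2⟩)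
    obtain ⟨i, hi⟩ := mem_zpowers_iff.1 (hg₀ ⟨c₁, hc₁A⟩)
    have hk' : b * (g₀ : G) * b⁻¹ = (g₀ : G) ^ k := by
      simpa using (congrArg Subtype.val hk).symm
    have hi' : c₁ = (g₀ : G) ^ i := by simpa using (congrArg Subtype.val hi).symm
    have hconj : b * c₁ * b⁻¹ ∈ zpowers c₁ := by
      refine mem_zpowers_iff.2 ⟨k, ?_⟩
      rw [hi', ← conj_zpow, hk', ← zpow_mul, ← zpow_mul, mul_comm]
    have hcomm := (Cfsg.Agent.Coprime.fpf_commute_and_mem (A := E) (K := sigmaCore L')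
      (inf_le_left.trans (Sigma.le_normalizer_sigmaCore L'))
      (fun a ha ha1 => o.fpf g.hG ha ha1) (Sigma.sigmaCore_ne_bot g.hG o.hL) hr g.hq
      (hAE hc₁A) hbE ho₁ hob hconj).1
    obtain ⟨d, hd, w, hw, hbw⟩ := g.exists_base (compl_le_baseC g o hbE)
    have hw1 : w ≠ 1 := fun e => hbC (by rw [hbw, e, mul_one]; exact hd)
    have hdc : Commute d c₁ := commute_coreC g hd (mem_sup_right hc₁C)
    have hwc : Commute w c₁ := by
      have h : Commute (d * w) c₁ := hbw ▸ hcomm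
      simpa using hdc.inv_left.mul_left h
    have := W₁_fpf g.hP w hw hw1 c₁ (mem_inf.mp hc₁C).1 hwc.eq
    rw [this, orderOf_one] at ho₁
    exact hr.ne_one ho₁.symm
  have h1 : A.relIndex E ≤ Nat.card W₁ := by
    rw [hA, inf_comm, inf_relIndex_right]
    refine le_of_le_of_eq (relIndex_le_of_le_right (compl_le_baseC g o) index_ne_zero_of_finite) ?_
    refine Nat.eq_of_mul_eq_mul_left (Nat.card_pos (α := ↥(coreC S U))) ?_
    rw [card_mul_relIndex (le_sup_left : coreC S U ≤ baseC S W₁ U), g.card_baseC]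
  calc Nat.card E = Nat.card A * A.relIndex E := (card_mul_relIndex hAE).symm
    _ ≤ Nat.card W₂ * Nat.card W₁ := by rw [hAW] at h1 ⊢; exact Nat.mul_le_mul_left _ h1
    _ ≤ _ := Nat.mul_le_mul_left _ hqm

end

theorem le_three_pow : ∀ p : ℕ, p + 3 ≤ 3 ^ (p + 1)
  | 0 => by norm_num
  | p + 1 => by
    have := le_three_pow p
    rw [pow_succ]
    omega

/-- With `L_σ = U` and `|C| ≤ p q` no conjugate of `L` contains an exceptional cyclic `V` in its core. -/
theorem not_conj [Fintype G] (c : CData S T W₁ W₂ U V L) (g : GHyp S W₁ U W₂) (hcore : sigmaCore L = U)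
    (hcardU : Nat.card U = Nat.card ↥(centU S U) ^ 2)
    (hm : Nat.card ↥(centU S U) ≤ Nat.card W₁ * Nat.card W₂)
    (hVc : IsCyclic V) (hexc : IsExceptional W₂ V W₁) (o : OverData T S W₂ V L') (x : G) :
    L' ≠ L.map (MulAut.conj x).toMonoidHom := by
  intro e
  set m := Nat.card ↥(centU S U) with hmdef
  obtain ⟨y, hyL, hyS⟩ := c.exists_mem_not_S
  set C' := (centU S U).map (MulAut.conj y).toMonoidHom with hC'
  have hC'U : C' ≤ U := by
    rintro _ ⟨a, ha, rfl⟩
    rw [← hcore]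
    exact (mem_normalizer_iff.mp (Sigma.le_normalizer_sigmaCore L hyL) a).mp (c.cu_le_core ha)
  have hC'n : C' ≤ normalizer (centU S U : Set G) := fun a ha =>
    g.le_normalizer_centU (U_le_M g.hP (hC'U ha))
  have hsup : centU S U ⊔ C' = U := by
    refine eq_of_le_of_card_ge (sup_le inf_le_left hC'U) ?_
    rw [Coprime.card_sup_of_disjoint hC'n (disjoint_iff.mpr (c.inf_cu_map hyS)),
      Transfer.Fusion.card_map_conj, hcardU, sq]
  have hexp : ∀ u ∈ U, u ^ m = 1 := fun u hu => by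
    rw [← hsup] at hu
    obtain ⟨a, ha, b, hb, rfl⟩ := KappaDecomp.exists_mul_sup hC'n hu
    rw [(g.commute_U (mem_inf.mp ha).1 (hC'U hb)).mul_pow,
      orderOf_dvd_iff_pow_eq_one.mp (orderOf_dvd_natCard _ ha), one_mul,
      ← orderOf_dvd_iff_pow_eq_one]
    exact (orderOf_dvd_natCard _ hb).trans (dvd_of_eq (Transfer.Fusion.card_map_conj _ y))
  obtain ⟨v, hv⟩ := hVc.exists_generator
  have hvU : (v : G) ∈ U.map (MulAut.conj x).toMonoidHom := by
    rw [← hcore, ← SigmaParts.sigmaCore_map, ← e]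
    exact o.U_le v.2
  obtain ⟨u, hu, hux⟩ := hvU
  have hvm : Nat.card V ≤ m := by
    rw [← orderOf_eq_card_of_forall_mem_zpowers hv, ← orderOf_coe]
    refine Nat.le_of_dvd (Nat.card_pos) (orderOf_dvd_of_pow_eq_one ?_)
    rw [← hux, ← map_pow, hexp u hu, map_one]
  -- `|V| (q - 1) + 1 = q ^ p`
  set q := Nat.card W₁ with hq
  set p := Nat.card W₂ with hp
  have hodd : ∀ H : Subgroup G, Odd (Nat.card H) := odd_subgroup g.hG
  obtain ⟨i, hi⟩ := hodd W₁
  obtain ⟨j, hj⟩ := hodd W₂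
  rw [← hq] at hi
  rw [← hp] at hj
  have hq2 := g.hq.two_le
  have hp2 := g.hp.two_le
  have h : Nat.card V * (q - 1) + 1 = q ^ p := (Exceptional.Side.exceptional_iff g.hq.one_lt.le).1 hexc
  have hqp : q ^ p = q ^ 2 * q ^ (p - 2) := by
    rw [← pow_add, Nat.add_sub_cancel' hp2]
  have h3 : p ≤ q ^ (p - 2) := le_trans (by
      have := le_three_pow (p - 3)
      rwa [show p - 3 + 3 = p by omega, show p - 3 + 1 = p - 2 by omega] at this)
    (Nat.pow_le_pow_left (by omega) _)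
  have h4 : Nat.card V * (q - 1) ≤ q * p * (q - 1) := Nat.mul_le_mul_right _ (hvm.trans hm)
  have h5 : q * q * p ≤ q ^ p := by
    rw [hqp, sq]; exact Nat.mul_le_mul_left _ h3
  have h6 : q * p * (q - 1) + q * p = q * q * p := by
    rw [← Nat.mul_succ, show (q - 1).succ = q by omega]; ring
  have h7 : 2 ≤ q * p := le_trans hp2 (Nat.le_mul_of_pos_left _ (by omega))
  omega

end Cfsg.Agent.OddChar.TypeP.Centralizer
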