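import Cfsg.Agent.OddChar.TypeP.Centralizer.Local
import Cfsg.Agent.OddChar.TypeP.Tools.Gamma

/-!
# The averages of `τΓ` on `L_σ`: `[U : C]` on the conjugates of `C#`, `0` elsewhere
-/

set_option autoImplicit false
set_option linter.unusedSectionVars false
set_option linter.style.haveILetI false

namespace Cfsg.Agent.OddChar.TypeP.Centralizer

open Cfsg Subgroup
open Cfsg.Agent.OddLocal Cfsg.Agent.OddLocal.SigmaParts
open Cfsg.Agent.OddChar.TypeP.Tools (GHyp centU)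
open Cfsg.Agent.CharTheory.IndBasic (extendByZero_of_mem)

universe u

variable {G : Type u} [Group G] [Fintype G] {S T L W₁ W₂ U V : Subgroup G}

/-- The non-identity elements conjugate in `L` into `C_U(S_F)`. -/
def K₀ (S U L : Subgroup G) : Set G :=
  {a | a ≠ 1 ∧ ∃ y : ↥L, (y : G) * a * (y : G)⁻¹ ∈ centU S U}

theorem K₀_inv {a : G} (ha : a ∈ K₀ S U L) (y : ↥L) : (y : G) * a * (y : G)⁻¹ ∈ K₀ S U L := by
  obtain ⟨ha1, z, hz⟩ := ha
  refine ⟨fun e => ha1 (conj_eq_one_iff.1 e), z * y⁻¹, ?_⟩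
  convert hz using 1
  simp only [Subgroup.coe_mul, InvMemClass.coe_inv]
  group

namespace CData

variable (c : CData S T W₁ W₂ U V L)
include c

theorem typeA_eq : typeA L = (sigmaCore L : Set G) \ {1} :=
  Tools.typeA_eq_core c.hG c.ov.hL c.ov.kappa

theorem K₀_subset : K₀ S U L ⊆ typeA L := by
  rintro a ⟨ha1, y, hy⟩
  rw [c.typeA_eq]
  refine ⟨?_, ha1⟩
  exact (mem_normalizer_iff.mp (Sigma.le_normalizer_sigmaCore L y.2) a).mpr (c.cu_le_core hy)

theorem prime_p : (Nat.card W₂).Prime := c.hf.hp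

/-- A non-identity element of `L_σ` conjugate into `S_F C` is conjugate into `C`. -/
theorem mem_K₀_of_conj (g : GHyp S W₁ U W₂) {a x : G} (ha : a ∈ sigmaCore L) (ha1 : a ≠ 1)
    (hx : x * a * x⁻¹ ∈ Tools.coreC S U) : a ∈ K₀ S U L := by
  obtain ⟨y, hy, c', hc', e⟩ := g.exists_coreC hx
  have hκS := Noncoherent.kappa_nonempty_of_typeP c.hG c.pair.hS c.hP
  have hσ : ∀ r : ℕ, r.Prime → r ∣ orderOf (x * a * x⁻¹) → r ∉ sigma S := fun r hr hd =>
    piEl_of_sigma_ne c.hG c.pair.hS c.ov.hL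
      (fun g e => Tools.map_ne_of_kappa c.hG c.ov.kappa hκS g e.symm)
      (mem_sigma_core ha) r hr (by rwa [TypeTwo.orderOf_conj] at hd)
  have hyσ : y ∈ sigmaCore S := c.core_S ▸ hy
  have hy1 : y = 1 := by
    by_contra hne
    obtain ⟨r, hr, hrd⟩ := Nat.exists_prime_and_dvd (mt orderOf_eq_one_iff.1 hne)
    have hcomm : Commute y c' := g.commute_C hc' hy
    refine hσ r hr (hrd.trans ?_) (mem_sigma_core hyσ r hr hrd)
    refine orderOf_dvd_of_pow_eq_one ?_
    have h := pow_orderOf_eq_one (x * a * x⁻¹)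
    rw [e, hcomm.mul_pow] at h
    rw [e]
    exact (g.eq_one_of_mul (pow_mem hy _) (pow_mem (mem_inf.mp hc').1 _) h).1
  rw [hy1, one_mul] at e
  obtain ⟨z, hz, hze⟩ := c.fusion ha ha1 (g := x) (e ▸ hc')
  exact ⟨ha1, ⟨z, hz⟩, hze ▸ e ▸ hc'⟩

/-- `ρ_L (τΓ)` on `A(L)`. -/
theorem rho_tauGam [Fintype S] (g : GHyp S W₁ U W₂) {j : ↥(W₁ ⊔ W₂) →* ℂˣ}
    (hj : j ∈ rightSet W₁ W₂) (hj1 : j ≠ 1) {a : G} (ha : a ∈ typeA L)
    [Decidable (a ∈ K₀ S U L)] :
    TypeOne.Gap.rho (supportR L) (g.tauGam j) a =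
      if a ∈ K₀ S U L then ((centU S U).relIndex U : ℂ) else 0 := by
  classical
  have hD := (DadeSets.main c.hG c.ov.hL _ (Or.inr (Or.inl rfl))).2
  have haσ : a ∈ sigmaCore L ∧ a ≠ 1 := by rw [c.typeA_eq] at ha; exact ha
  split_ifs with hK
  · obtain ⟨ha1, y, hy⟩ := hK
    rw [← TypeOne.Gap.rho_conj hD (show IsClassFunction G (g.tauGam j) from
      Tools.isClassFunction_tau c.hG g.hS (g.classFun_gam j)) ha y.2]
    set c' := (y : G) * a * (y : G)⁻¹ with hc'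
    have hc'1 : c' ≠ 1 := fun e => ha1 (conj_eq_one_iff.1 e)
    show TypeOne.Gap.rho (supportR L) (g.tauGam j) c' = _
    have hval : ∀ r ∈ fittingHallOf S,
        g.tauGam j (c' * r) = Cfsg.extendByZero S (g.gam j) (c' * r) := fun r hr => by
      refine Tools.tau_apply_mem c.hG g.hS (g.classFun_gam j) (Or.inl ?_)
      obtain ⟨z, hz, hz1⟩ := CyclicTI.exists_mem_ne_one g.hP.selfNormalizing.2.1
      have hzH := W₂_le_H g.hP hz
      refine (mem_typeA_iff c.hG g.hS g.hP).2 ⟨mul_mem (g.hP.U_compl.2.1 (mem_inf.mp hy).1)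
        (H_le_derived g.hP hr), fun e => hc'1 ?_, z, fittingHallOf_le_typeCore g.hP hzH, hz1,
        ((g.commute_C hy hzH).symm.mul_left (g.commute_H hr hzH)).eq⟩
      rw [← (g.commute_C hy hr).eq] at e
      exact (g.eq_one_of_mul hr (mem_inf.mp hy).1 e).2
    rw [TypeOne.Gap.rho, c.supportR_eq hy hc'1,
      Finset.sum_congr rfl fun r hr => hval r (Finset.mem_filter.1 hr).2]
    have h := g.sum_coset hj hj1 hy
    rw [finsum_mem_eq_finite_toFinset_sum _ (Set.toFinite _),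
      Finset.sum_congr (s₂ := Finset.univ.filter fun r : G => r ∈ fittingHallOf S) (by ext; simp)
        fun _ _ => rfl] at h
    rw [h, mul_comm, mul_assoc, mul_inv_cancel₀ (Nat.cast_ne_zero.2 Nat.card_pos.ne'), mul_one]
  · refine TypeOne.Gap.rho_const fun r hr => ?_
    by_contra hne
    obtain ⟨har, hrσ, -⟩ := SupportR.mem_cases c.hG c.ov.hL haσ.1 haσ.2 hr
    obtain ⟨x, hx | ⟨w, hw, -, -, e⟩⟩ := Tools.exists_conj_of_tau_ne c.hG g.hS g.hP hne
    · refine hK (c.mem_K₀_of_conj g haσ.1 haσ.2 (x := x) ?_)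
      have hd := ((mem_typeA_iff c.hG g.hS g.hP).1 hx).1
      have hxS : x * (a * r) * x⁻¹ ∈ S := commutator_le_M S hd
      have hne' : g.gam j ⟨_, hxS⟩ ≠ 0 := fun h0 => hne (by
        show tau S (g.gam j) (a * r) = 0
        rw [← Tools.isClassFunction_tau c.hG g.hS (g.classFun_gam j) (a * r) x]
        show tau S (g.gam j) (x * (a * r) * x⁻¹) = 0
        rw [Tools.tau_apply_mem c.hG g.hS (g.classFun_gam j) (Or.inl hx),
          extendByZero_of_mem S (g.gam j) hxS, h0])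
      have hcore := (g.gam_supp_derived j (x := ⟨_, hxS⟩) hd hne').1
      obtain ⟨i, hi⟩ := mem_zpowers_iff.1
        (mem_zpowers_mul har (coprime_of_parts (mem_sigma_core haσ.1) hrσ))
      rw [← hi, ← conj_zpow]
      exact zpow_mem hcore i
    · refine Tools.notMem_tilde_of_mem_W c.hG c.ov.hL c.ov.kappa g.hS g.hP hw x⁻¹ ?_
      refine SupportR.mem_tilde.2 ⟨a, ha, r, hr, 1, ?_⟩
      rw [← e]; group

/-- `|K₀| |U W₁| = |L| (|C| - 1)`. -/
theorem card_K₀ : Nat.card {x : ↥L // (x : G) ∈ K₀ S U L} * Nat.card ↥(U ⊔ W₁) =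
    Nat.card ↥L * (Nat.card ↥(centU S U) - 1) := by
  classical
  haveI := Fintype.ofFinite ↥(centU S U)
  set H : Subgroup ↥L := (U ⊔ W₁).subgroupOf L with hH
  have hUWL : U ⊔ W₁ ≤ L := c.ov.inter.ge.trans inf_le_right
  have hUWS : U ⊔ W₁ ≤ S := c.ov.inter.ge.trans inf_le_left
  have hcard : Nat.card {v : ↥(centU S U) // v ≠ 1} = Nat.card ↥(centU S U) - 1 := by
    rw [Nat.card_eq_fintype_card, Fintype.card_subtype_compl, Fintype.card_subtype_eq,
      ← Nat.card_eq_fintype_card]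
  let f : (↥L ⧸ H) × {v : ↥(centU S U) // v ≠ 1} → {x : ↥L // (x : G) ∈ K₀ S U L} := fun z =>
    ⟨⟨(z.1.out : G) * (z.2.1 : G) * (z.1.out : G)⁻¹, mul_mem (mul_mem z.1.out.2
        (Sigma.sigmaCore_le L (c.cu_le_core z.2.1.2))) (inv_mem z.1.out.2)⟩,
      fun e => z.2.2 (Subtype.ext (conj_eq_one_iff.1 e)), z.1.out⁻¹, by
        show ((z.1.out : G))⁻¹ * ((z.1.out : G) * (z.2.1 : G) * (z.1.out : G)⁻¹) *
          ((z.1.out : G))⁻¹⁻¹ ∈ centU S U
        rw [show ((z.1.out : G))⁻¹ * ((z.1.out : G) * (z.2.1 : G) * (z.1.out : G)⁻¹) *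
          ((z.1.out : G))⁻¹⁻¹ = (z.2.1 : G) by group]
        exact z.2.1.2⟩
  have hf : Function.Bijective f := by
    constructor
    · rintro ⟨z, v, hv⟩ ⟨z', v', hv'⟩ e
      have e' : (z.out : G) * (v : G) * (z.out : G)⁻¹ = (z'.out : G) * (v' : G) * (z'.out : G)⁻¹ :=
        congrArg (fun t : {x : ↥L // (x : G) ∈ K₀ S U L} => ((t.1 : ↥L) : G)) e
      have hm : ((z'.out⁻¹ * z.out : ↥L) : G) * (v : G) * ((z'.out⁻¹ * z.out : ↥L) : G)⁻¹ = v' := by
        simp only [Subgroup.coe_mul, InvMemClass.coe_inv]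
        calc (z'.out : G)⁻¹ * (z.out : G) * (v : G) * ((z'.out : G)⁻¹ * (z.out : G))⁻¹
            = (z'.out : G)⁻¹ * ((z.out : G) * (v : G) * (z.out : G)⁻¹) * (z'.out : G) := by group
          _ = _ := by rw [e']; group
      have hyS : ((z'.out⁻¹ * z.out : ↥L) : G) ∈ S :=
        c.mem_of_conj v.2 (fun h1 => hv (Subtype.ext h1)) (hm ▸ v'.2)
      have hz : z' = z := by
        rw [← QuotientGroup.out_eq' z', ← QuotientGroup.out_eq' z, QuotientGroup.eq]
        refine mem_subgroupOf.mpr ?_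
        exact c.ov.inter.le (mem_inf.mpr ⟨hyS, (z'.out⁻¹ * z.out : ↥L).2⟩)
      subst hz
      have hv : (v : G) = v' := by simpa using hm
      obtain rfl : v = v' := Subtype.ext hv
      rfl
    · rintro ⟨x, hx1, y, hy⟩
      obtain ⟨⟨h, hh⟩, he⟩ := QuotientGroup.mk_out_eq_mul H y⁻¹
      have hhS : (h : G) ∈ S := hUWS (mem_subgroupOf.mp hh)
      have hv : (h : G)⁻¹ * ((y : G) * (x : G) * (y : G)⁻¹) * (h : G) ∈ centU S U :=
        (mem_normalizer_iff''.mp (c.le_normalizer_cu hhS) _).mp hy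
      refine ⟨(QuotientGroup.mk y⁻¹, ⟨⟨_, hv⟩, fun e => hx1 (conj_eq_one_iff.1
        ((mul_inv_eq_one (a := (y : G) * (x : G) * (y : G)⁻¹) (b := 1)).1 (by
          have e' := congrArg Subtype.val e
          simp only [OneMemClass.coe_one] at e'
          calc _ = (y : G) * (x : G) * (y : G)⁻¹ := by rw [inv_one, mul_one]
            _ = (h : G) * ((h : G)⁻¹ * ((y : G) * (x : G) * (y : G)⁻¹) * (h : G)) * (h : G)⁻¹ := by
              group
            _ = 1 := by rw [e']; group)))⟩), ?_⟩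
      refine Subtype.ext (Subtype.ext ?_)
      show ((QuotientGroup.mk y⁻¹ : ↥L ⧸ H).out : G) * ((h : G)⁻¹ * ((y : G) * (x : G) * (y : G)⁻¹) *
        (h : G)) * ((QuotientGroup.mk y⁻¹ : ↥L ⧸ H).out : G)⁻¹ = _
      rw [he]
      simp only [Subgroup.coe_mul, InvMemClass.coe_inv]
      group
  rw [← Nat.card_eq_of_bijective f hf, Nat.card_prod, hcard,
    ← Subgroup.card_mul_index H, show Nat.card ↥H = Nat.card ↥(U ⊔ W₁) from
      Nat.card_congr (subgroupOfEquivOfLe hUWL).toEquiv, Subgroup.index]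
  ring

end CData

end Cfsg.Agent.OddChar.TypeP.Centralizer
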